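import Mathlib
import Cfsg.Agent.Blocks.ModularTraces

/-!
# Groups of rank one and their modules in the defining characteristic

`RO N P T w`: `N = T P`, `P` normal in `N`, `G = N ∪ P w T P`, `P ∩ w⁻¹ N w = 1`, `w ∈ N(T)`, `w² ∈ T`.

A representation is *thin* if `∑ u ∈ P, u` acts as zero.

* `coef_zero`: a bi-`P`-invariant function on `G` all of whose sums over the cosets `g P g'` vanish is determined by its
  values on `w T`;
* `fix_irr`: the `P`-fixed points of a thin irreducible representation are an irreducible `N`-module;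
* `equiv_of_fix`: a thin irreducible representation is determined by its `P`-fixed points.
-/

set_option autoImplicit false

namespace Cfsg.Agent.H608.TI

open Module

/-! ### Irreducible representations and submodules -/

section irr

variable {K : Type*} [Field K] {G : Type*} [Group G] {W : Type*} [AddCommGroup W] [Module K W]

theorem irr_nontrivial {σ : Representation K G W} (h : σ.IsIrreducible) : Nontrivial W := by
  by_contra hcon
  rw [not_nontrivial_iff_subsingleton] at hcon
  have hnt : Nontrivial (Subrepresentation σ) := h.toNontrivial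
  obtain ⟨A, B, hAB⟩ := hnt
  apply hAB
  ext x
  have : x = 0 := Subsingleton.elim _ _
  rw [this]
  exact ⟨fun _ => B.toSubmodule.zero_mem, fun _ => A.toSubmodule.zero_mem⟩

theorem irr_top {σ : Representation K G W} (h : σ.IsIrreducible) (U : Submodule K W)
    (hU : ∀ g, ∀ v ∈ U, σ g v ∈ U) (hne : U ≠ ⊥) : U = ⊤ := by
  let A : Subrepresentation σ := ⟨U, fun g v hv => hU g v hv⟩
  rcases h.eq_bot_or_eq_top A with h1 | h1
  · exact absurd (congrArg Subrepresentation.toSubmodule h1) hne
  · exact congrArg Subrepresentation.toSubmodule h1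

theorem irr_of {σ : Representation K G W} [Nontrivial W]
    (h : ∀ U : Submodule K W, (∀ g, ∀ v ∈ U, σ g v ∈ U) → U = ⊥ ∨ U = ⊤) : σ.IsIrreducible := by
  have hnt : Nontrivial (Subrepresentation σ) := by
    refine ⟨⊥, ⊤, fun h1 => ?_⟩
    have h2 : (⊥ : Submodule K W) = ⊤ := congrArg Subrepresentation.toSubmodule h1
    exact bot_ne_top h2
  refine ⟨fun A => ?_⟩
  rcases h A.toSubmodule (fun g v hv => A.apply_mem_toSubmodule g hv) with h1 | h1
  · exact Or.inl (Subrepresentation.toSubmodule_injective h1)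
  · exact Or.inr (Subrepresentation.toSubmodule_injective h1)

end irr

/-! ### Fixed points of `p`-groups -/

section fixed

variable {K : Type*} [Field K] {G : Type*} [Group G] {W : Type*} [AddCommGroup W] [Module K W]

/-- The fixed points of a subgroup. -/
def fx (ρ : Representation K G W) (P : Subgroup G) : Submodule K W where
  carrier := {v | ∀ u ∈ P, ρ u v = v}
  add_mem' := fun {a b} ha hb u hu => by rw [map_add, ha u hu, hb u hu]
  zero_mem' := fun u _ => map_zero _
  smul_mem' := fun c v hv u hu => by rw [map_smul, hv u hu]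

theorem mem_fx {ρ : Representation K G W} {P : Subgroup G} {v : W} :
    v ∈ fx ρ P ↔ ∀ u ∈ P, ρ u v = v := Iff.rfl

/-- A `p`-group fixes a nonzero vector of each nonzero invariant subspace in characteristic `p`. -/
theorem exists_fixed {p : ℕ} [Fact p.Prime] [CharP K p] (ρ : Representation K G W) (P : Subgroup G)
    [Finite P] (hP : IsPGroup p P) (U : Submodule K W) (hU : ∀ u ∈ P, ∀ v ∈ U, ρ u v ∈ U)
    (hne : U ≠ ⊥) : ∃ v ∈ U, v ≠ 0 ∧ v ∈ fx ρ P := by
  classical
  obtain ⟨v, hv, hv0⟩ := Submodule.exists_mem_ne_zero_of_ne_bot hne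
  let _ : Algebra (ZMod p) K := ZMod.algebra K p
  let _ : Module (ZMod p) W := Module.compHom W (algebraMap (ZMod p) K)
  have hsm : ∀ (c : ZMod p) (x : W), c • x = (algebraMap (ZMod p) K c) • x := fun c x => rfl
  let S : Submodule (ZMod p) W := Submodule.span (ZMod p) (Set.range fun u : P => ρ (u : G) v)
  have hSfin : Finite S := by
    have : Module.Finite (ZMod p) S := by
      apply Module.Finite.span_of_finite
      exact Set.finite_range _
    exact Module.finite_of_finite (ZMod p)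
  have hSP : ∀ u ∈ P, ∀ x ∈ S, ρ u x ∈ S := by
    intro u hu x hx
    induction hx using Submodule.span_induction with
    | mem x hx =>
      obtain ⟨u', rfl⟩ := hx
      refine Submodule.subset_span ⟨⟨u, hu⟩ * u', ?_⟩
      show ρ (u * (u' : G)) v = ρ u (ρ (u' : G) v)
      rw [map_mul]; rfl
    | zero => rw [map_zero]; exact S.zero_mem
    | add x y _ _ hx hy => rw [map_add]; exact S.add_mem hx hy
    | smul c x _ hx => rw [hsm, map_smul, ← hsm]; exact S.smul_mem c hx
  have hSU : ∀ x ∈ S, x ∈ U := by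
    intro x hx
    induction hx using Submodule.span_induction with
    | mem x hx =>
      obtain ⟨u', rfl⟩ := hx
      exact hU _ u'.2 v hv
    | zero => exact U.zero_mem
    | add x y _ _ hx hy => exact U.add_mem hx hy
    | smul c x _ hx => rw [hsm]; exact U.smul_mem _ hx
  let act : MulAction P S :=
    { smul := fun u x => ⟨ρ (u : G) x, hSP u u.2 x x.2⟩
      one_smul := fun x => Subtype.ext (by show ρ ((1 : P) : G) (x : W) = x; rw [Subgroup.coe_one, map_one]; rfl)
      mul_smul := fun a b x => Subtype.ext (by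
        show ρ ((a * b : P) : G) (x : W) = ρ (a : G) (ρ (b : G) x)
        rw [Subgroup.coe_mul, map_mul]; rfl) }
  have hsmul : ∀ (u : P) (x : S), ((u • x : S) : W) = ρ (u : G) x := fun u x => rfl
  have hpS : p ∣ Nat.card S := by
    have h1 : (⟨v, Submodule.subset_span ⟨1, by show ρ ((1 : P) : G) v = v; rw [Subgroup.coe_one, map_one]; rfl⟩⟩ : S) ≠ 0 :=
      fun h => hv0 (congrArg Subtype.val h)
    have h2 : addOrderOf (⟨v, Submodule.subset_span ⟨1, by
        show ρ ((1 : P) : G) v = v; rw [Subgroup.coe_one, map_one]; rfl⟩⟩ : S) = p := by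
      apply addOrderOf_eq_prime _ h1
      apply Subtype.ext
      show p • v = 0
      have h3 : p • v = ((p : ℕ) : K) • v := (Nat.cast_smul_eq_nsmul K p v).symm
      rw [h3, CharP.cast_eq_zero, zero_smul]
    have h5 := addOrderOf_dvd_natCard (⟨v, Submodule.subset_span ⟨1, by
        show ρ ((1 : P) : G) v = v; rw [Subgroup.coe_one, map_one]; rfl⟩⟩ : S)
    rwa [h2] at h5
  have hcard := hP.card_modEq_card_fixedPoints (α := S)
  have hpF : p ∣ Nat.card (MulAction.fixedPoints P S) :=
    (Nat.modEq_zero_iff_dvd.1 (hcard.symm.trans (Nat.modEq_zero_iff_dvd.2 hpS)))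
  have h0 : (0 : S) ∈ MulAction.fixedPoints P S := fun u => Subtype.ext (by
    rw [hsmul]; exact map_zero _)
  have h1 : 1 < Nat.card (MulAction.fixedPoints P S) := by
    have hpos : 0 < Nat.card (MulAction.fixedPoints P S) := by
      have : Nonempty (MulAction.fixedPoints P S) := ⟨⟨0, h0⟩⟩
      exact Nat.card_pos
    exact lt_of_lt_of_le (Fact.out : p.Prime).one_lt (Nat.le_of_dvd hpos hpF)
  have : Nontrivial (MulAction.fixedPoints P S) := by
    rw [← Finite.one_lt_card_iff_nontrivial]; exact h1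
  obtain ⟨x, hx⟩ := exists_ne (⟨0, h0⟩ : MulAction.fixedPoints P S)
  refine ⟨x.1.1, hSU _ x.1.2, fun h => hx (Subtype.ext (Subtype.ext h)), fun u hu => ?_⟩
  have := x.2 ⟨u, hu⟩
  have := congrArg Subtype.val this
  rwa [hsmul] at this

end fixed

/-! ### Rank one -/

/-- Data of a group of rank one. -/
structure RO {G : Type*} [Group G] (N P T : Subgroup G) (w : G) : Prop where
  hPN : P ≤ N
  hTN : T ≤ N
  norm : ∀ n ∈ N, ∀ u ∈ P, n * u * n⁻¹ ∈ P
  wT : ∀ t ∈ T, w * t * w⁻¹ ∈ T
  wT' : ∀ t ∈ T, w⁻¹ * t * w ∈ T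
  w2 : w * w ∈ T
  wN : w ∉ N
  dec : ∀ n ∈ N, ∃ t ∈ T, ∃ u ∈ P, n = t * u
  disj : ∀ u ∈ P, w * u * w⁻¹ ∈ N → u = 1
  cell : ∀ g : G, g ∉ N → ∃ u ∈ P, ∃ t ∈ T, ∃ u' ∈ P, g = u * w * t * u'

section ro

variable {G : Type*} [Group G] {N P T : Subgroup G} {w : G}

theorem RO.not_mem (h : RO N P T w) {u t u' : G} (hu : u ∈ P) (ht : t ∈ T) (hu' : u' ∈ P) :
    u * w * t * u' ∉ N := by
  intro hn
  apply h.wN
  have h1 := N.mul_mem (N.mul_mem (N.inv_mem (h.hPN hu)) hn) (N.inv_mem (N.mul_mem (h.hTN ht) (h.hPN hu')))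
  have h2 : u⁻¹ * (u * w * t * u') * (t * u')⁻¹ = w := by group
  rwa [h2] at h1

theorem RO.disj' (h : RO N P T w) {u : G} (hu : u ∈ P) (hn : w⁻¹ * u * w ∈ N) : u = 1 := by
  have h2 : w * w * u * (w * w)⁻¹ ∈ P := h.norm _ (h.hTN h.w2) _ hu
  have h3 : w * w * u * (w * w)⁻¹ = 1 := by
    -- `w⁻¹ u w ∈ N`
    have h4 : (w * w)⁻¹ * u * (w * w) ∈ P := by
      have := h.norm _ (N.inv_mem (h.hTN h.w2)) _ hu
      rwa [inv_inv] at this
    have h5 := h.disj _ h4 (by
      have : w * ((w * w)⁻¹ * u * (w * w)) * w⁻¹ = w⁻¹ * u * w := by group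
      rw [this]; exact hn)
    have h6 : u = 1 := by
      have : u = (w * w) * ((w * w)⁻¹ * u * (w * w)) * (w * w)⁻¹ := by group
      rw [this, h5]; group
    rw [h6]; group
  have : u = (w * w)⁻¹ * (w * w * u * (w * w)⁻¹) * (w * w) := by group
  rw [this, h3]; group

theorem RO.T_inf_P (h : RO N P T w) {t : G} (ht : t ∈ T) (hP : t ∈ P) : t = 1 :=
  h.disj t hP (h.hTN (h.wT t ht))

/-- A bi-`P`-invariant function with vanishing sums over the sets `g P g'`, zero on `w T`, is zero. -/
theorem RO.coef_zero (h : RO N P T w) {A : Type*} [AddCommGroup A] [Fintype P] (F : G → A)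
    (hl : ∀ u ∈ P, ∀ g, F (u * g) = F g) (hr : ∀ u ∈ P, ∀ g, F (g * u) = F g)
    (hs : ∀ g g', ∑ u : P, F (g * u * g') = 0) (hw : ∀ t ∈ T, F (w * t) = 0) (g : G) : F g = 0 := by
  classical
  have hc : ∀ g, g ∉ N → F g = 0 := by
    intro g hg
    obtain ⟨u, hu, t, ht, u', hu', rfl⟩ := h.cell g hg
    rw [hr u' hu', mul_assoc, hl u hu, hw t ht]
  by_cases hg : g ∈ N
  · obtain ⟨t, ht, u', hu', rfl⟩ := h.dec g hg
    rw [hr u' hu']
    have h1 := hs w (w * ((w * w)⁻¹ * t))
    rw [Finset.sum_eq_single (1 : P)] at h1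
    · have h2 : w * ((1 : P) : G) * (w * ((w * w)⁻¹ * t)) = t := by
        rw [Subgroup.coe_one]; group
      rwa [h2] at h1
    · intro u _ hu1
      apply hc
      intro hn
      apply hu1
      apply Subtype.ext
      apply h.disj u u.2
      have h3 := N.mul_mem hn (N.inv_mem (h.hTN ht))
      have h4 : w * (u : G) * (w * ((w * w)⁻¹ * t)) * t⁻¹ = w * (u : G) * w⁻¹ := by group
      rwa [h4] at h3
    · intro h; exact absurd (Finset.mem_univ _) h
  · exact hc g hg

end ro

/-! ### Density for two representations -/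

section density

variable {K : Type*} [Field K] [IsAlgClosed K] {G : Type*} [Group G] {W : Type*} [AddCommGroup W]
  [Module K W] [FiniteDimensional K W] {W' : Type*} [AddCommGroup W'] [Module K W']
  [FiniteDimensional K W']

/-- Transport of a representation. -/
def tr {X : Type*} [AddCommGroup X] [Module K X] (ρ : Representation K G W) (e : W ≃ₗ[K] X) :
    Representation K G X where
  toFun g := e.conj (ρ g)
  map_one' := by rw [map_one]; ext x; simp
  map_mul' a b := by
    ext x
    rw [map_mul]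
    simp [LinearEquiv.conj_apply]

omit [IsAlgClosed K] [FiniteDimensional K W] in
theorem tr_apply {X : Type*} [AddCommGroup X] [Module K X] (ρ : Representation K G W)
    (e : W ≃ₗ[K] X) (g : G) (v : W) : tr ρ e g (e v) = e (ρ g v) := by
  show e (ρ g (e.symm (e v))) = _
  rw [LinearEquiv.symm_apply_apply]

omit [IsAlgClosed K] [FiniteDimensional K W] in
theorem tr_irr {X : Type*} [AddCommGroup X] [Module K X] {ρ : Representation K G W}
    (h : ρ.IsIrreducible) (e : W ≃ₗ[K] X) : (tr ρ e).IsIrreducible := by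
  have := irr_nontrivial h
  have : Nontrivial X := e.toEquiv.symm.nontrivial
  refine irr_of fun U hU => ?_
  by_cases h1 : U = ⊥
  · exact Or.inl h1
  · refine Or.inr ?_
    have h2 := irr_top h (U.comap (e : W →ₗ[K] X)) (fun g v hv => by
        rw [Submodule.mem_comap] at hv ⊢
        show e (ρ g v) ∈ U
        rw [← tr_apply]; exact hU g _ hv) (fun hb => h1 (by
          rw [eq_bot_iff]
          intro x hx
          have h3 : e.symm x ∈ U.comap (e : W →ₗ[K] X) := by
            rw [Submodule.mem_comap]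
            show e (e.symm x) ∈ U
            rwa [LinearEquiv.apply_symm_apply]
          rw [hb, Submodule.mem_bot] at h3
          rw [Submodule.mem_bot, ← e.apply_symm_apply x, h3, map_zero]))
    rw [eq_top_iff]
    intro x _
    have h3 : e.symm x ∈ U.comap (e : W →ₗ[K] X) := by rw [h2]; exact Submodule.mem_top
    rw [Submodule.mem_comap] at h3
    have h4 : e (e.symm x) ∈ U := h3
    rwa [LinearEquiv.apply_symm_apply] at h4

omit [IsAlgClosed K] [FiniteDimensional K W] in
theorem tr_alg {X : Type*} [AddCommGroup X] [Module K X] (ρ : Representation K G W)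
    (e : W ≃ₗ[K] X) (a : MonoidAlgebra K G) (v : W) :
    (tr ρ e).asAlgebraHom a (e v) = e (ρ.asAlgebraHom a v) := by
  induction a using MonoidAlgebra.induction_linear with
  | zero => simp
  | add a b ha hb => rw [map_add, map_add, LinearMap.add_apply, LinearMap.add_apply, ha, hb, map_add]
  | single g c =>
    rw [Representation.asAlgebraHom_single, Representation.asAlgebraHom_single, LinearMap.smul_apply,
      LinearMap.smul_apply, map_smul, tr_apply]

/-- Burnside's theorem. -/
theorem exists_alg {ρ : Representation K G W} (h : ρ.IsIrreducible) (S : Module.End K W) :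
    ∃ a : MonoidAlgebra K G, ρ.asAlgebraHom a = S := by
  obtain ⟨a, ha⟩ := Blocks.ModularTraces.exists_density (ι := Unit) (fun _ => ρ)
    (fun _ => h) (fun i j h => absurd (Subsingleton.elim i j) h) (fun _ => S)
  exact ⟨a, ha ()⟩

/-- Density for two inequivalent representations. -/
theorem exists_alg_two {ρ : Representation K G W} {ρ' : Representation K G W'}
    (h : ρ.IsIrreducible) (h' : ρ'.IsIrreducible) (hne : ¬ ∃ e : W ≃ₗ[K] W', ∀ g v, e (ρ g v) = ρ' g (e v))
    (S : Module.End K W) : ∃ a : MonoidAlgebra K G, ρ.asAlgebraHom a = S ∧ ρ'.asAlgebraHom a = 0 := by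
  let e : W ≃ₗ[K] (Fin (finrank K W) → K) := (finBasis K W).equivFun
  let e' : W' ≃ₗ[K] (Fin (finrank K W') → K) := (finBasis K W').equivFun
  let n : Bool → ℕ := fun b => match b with
    | true => finrank K W
    | false => finrank K W'
  let σ : ∀ b : Bool, Representation K G (Fin (n b) → K) := fun b => match b with
    | true => tr ρ e
    | false => tr ρ' e'
  have key : ∀ f : (Fin (finrank K W) → K) ≃ₗ[K] (Fin (finrank K W') → K),
      ¬ ∀ g x, f (tr ρ e g x) = tr ρ' e' g (f x) := by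
    intro f hf
    apply hne
    refine ⟨(e.trans f).trans e'.symm, fun g v => ?_⟩
    show e'.symm (f (e (ρ g v))) = ρ' g (e'.symm (f (e v)))
    rw [← tr_apply, hf, LinearEquiv.symm_apply_eq, ← tr_apply, LinearEquiv.apply_symm_apply]
  have hn1 : IsEmpty (Representation.Equiv (tr ρ e) (tr ρ' e')) := ⟨fun f => key f.toLinearEquiv
    fun g x => LinearMap.congr_fun (f.isIntertwining' g) x⟩
  have hn2 : IsEmpty (Representation.Equiv (tr ρ' e') (tr ρ e)) := ⟨fun f => key f.toLinearEquiv.symm
    fun g x => by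
      rw [LinearEquiv.symm_apply_eq]
      have := LinearMap.congr_fun (f.isIntertwining' g) (f.toLinearEquiv.symm x)
      have h3 : f.toLinearEquiv (tr ρ' e' g (f.toLinearEquiv.symm x)) =
        tr ρ e g (f.toLinearEquiv (f.toLinearEquiv.symm x)) := this
      rw [h3, LinearEquiv.apply_symm_apply]⟩
  obtain ⟨a, ha⟩ := Blocks.ModularTraces.exists_density (ι := Bool) σ
    (fun b => match b with
      | true => tr_irr h e
      | false => tr_irr h' e')
    (fun b b' => match b, b' with
      | true, true => fun h => absurd rfl h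
      | true, false => fun _ => hn1
      | false, true => fun _ => hn2
      | false, false => fun h => absurd rfl h)
    (fun b => match b with
      | true => e.conj S
      | false => 0)
  refine ⟨a, LinearMap.ext fun v => ?_, LinearMap.ext fun v => ?_⟩
  · have h1 : (tr ρ e).asAlgebraHom a = e.conj S := ha true
    have h2 := LinearMap.congr_fun h1 (e v)
    rw [tr_alg] at h2
    apply e.injective
    rw [h2]
    simp [LinearEquiv.conj_apply]
  · have h1 : (tr ρ' e').asAlgebraHom a = 0 := ha false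
    have h2 := LinearMap.congr_fun h1 (e' v)
    rw [tr_alg] at h2
    apply e'.injective
    rw [h2, LinearMap.zero_apply, LinearMap.zero_apply, map_zero]

end density

/-! ### Pairings -/

section pairing

variable {K : Type*} [Field K] {A B : Type*} [AddCommGroup A] [Module K A] [FiniteDimensional K A]
  [AddCommGroup B] [Module K B] [FiniteDimensional K B]

omit [FiniteDimensional K A] in
theorem finrank_le_of_pairing (L : A →ₗ[K] (B →ₗ[K] K)) (h : ∀ a, (∀ b, L a b = 0) → a = 0) :
    finrank K A ≤ finrank K B := by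
  rw [← Subspace.dual_finrank_eq (V := B)]
  refine LinearMap.finrank_le_finrank_of_injective (f := L) ?_
  refine (injective_iff_map_eq_zero L).2 fun a ha => h a fun b => ?_
  rw [ha]; rfl

theorem surj_of_pairing (L : A →ₗ[K] (B →ₗ[K] K)) (h : ∀ a, (∀ b, L a b = 0) → a = 0)
    (hf : finrank K A = finrank K B) (α : B →ₗ[K] K) : ∃ a, ∀ b, L a b = α b := by
  have hinj : Function.Injective L := by
    refine (injective_iff_map_eq_zero L).2 fun a ha => h a fun b => ?_
    rw [ha]; rfl
  have hf' : finrank K A = finrank K (B →ₗ[K] K) := by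
    rw [hf]; exact Subspace.dual_finrank_eq.symm
  obtain ⟨a, ha⟩ := ((LinearMap.injective_iff_surjective_of_finrank_eq_finrank hf').1 hinj) α
  exact ⟨a, fun b => by rw [ha]⟩

end pairing

/-! ### Thin representations -/

section thin

variable {K : Type*} [Field K] {G : Type*} [Group G] {N P T : Subgroup G} {w : G} [Fintype P]
  {W : Type*} [AddCommGroup W] [Module K W] {W' : Type*} [AddCommGroup W'] [Module K W']

/-- The sum of the elements of `P` acts as zero. -/
def Thin (ρ : Representation K G W) (P : Subgroup G) [Fintype P] : Prop :=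
  ∀ v, ∑ u : P, ρ (u : G) v = 0

omit [Fintype P] in
variable (P) in
/-- The `P`-invariant linear forms. -/
abbrev dfx (ρ : Representation K G W) := fx ρ.dual P

omit [Fintype P] in
theorem mem_dfx {ρ : Representation K G W} {f : W →ₗ[K] K} :
    f ∈ dfx P ρ ↔ ∀ u ∈ P, ∀ v, f (ρ u v) = f v := by
  constructor
  · intro hf u hu v
    have h3 := LinearMap.congr_fun (hf u⁻¹ (P.inv_mem hu)) v
    rw [Representation.dual_apply, inv_inv] at h3
    exact h3
  · intro hf u hu
    apply LinearMap.ext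
    intro v
    rw [Representation.dual_apply]
    exact hf _ (P.inv_mem hu) v

theorem rho_mul (ρ : Representation K G W) (a b : G) (v : W) : ρ (a * b) v = ρ a (ρ b v) := by
  rw [map_mul]; rfl

omit [Fintype P] in
theorem RO.fx_stable (h : RO N P T w) (ρ : Representation K G W) {n : G} (hn : n ∈ N) {v : W}
    (hv : v ∈ fx ρ P) : ρ n v ∈ fx ρ P := by
  intro u hu
  have h1 : n⁻¹ * u * n ∈ P := by
    have := h.norm _ (N.inv_mem hn) u hu
    rwa [inv_inv] at this
  rw [← rho_mul, show u * n = n * (n⁻¹ * u * n) by group, rho_mul, hv _ h1]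

omit [Fintype P] in
theorem exists_dfx {p : ℕ} [Fact p.Prime] [CharP K p] [FiniteDimensional K W] [Nontrivial W]
    [Finite P] (hP : IsPGroup p P) (ρ : Representation K G W) : dfx P ρ ≠ ⊥ := by
  have h1 : (⊤ : Submodule K (Dual K W)) ≠ ⊥ := by
    have : Nontrivial (Dual K W) := inferInstance
    exact top_ne_bot
  obtain ⟨f, -, hf0, hf⟩ := exists_fixed ρ.dual P hP ⊤ (fun _ _ _ _ => Submodule.mem_top) h1
  intro h2
  apply hf0
  rw [← Submodule.mem_bot K, ← h2]
  exact hf

/-- The coefficients of thin representations. -/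
theorem RO.coef (h : RO N P T w) {ρ : Representation K G W} {ρ' : Representation K G W'}
    (hρ : Thin ρ P) (hρ' : Thin ρ' P) {v : W} {v' : W'} (hv : v ∈ fx ρ P) (hv' : v' ∈ fx ρ' P)
    {f : W →ₗ[K] K} {f' : W' →ₗ[K] K} (hf : f ∈ dfx P ρ) (hf' : f' ∈ dfx P ρ')
    (hw : ∀ t ∈ T, f (ρ (w * t) v) = f' (ρ' (w * t) v')) (g : G) : f (ρ g v) = f' (ρ' g v') := by
  have h1 := h.coef_zero (fun g => f (ρ g v) - f' (ρ' g v')) (fun u hu g => by
      rw [rho_mul, rho_mul, mem_dfx.1 hf u hu, mem_dfx.1 hf' u hu])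
    (fun u hu g => by rw [rho_mul, rho_mul, hv u hu, hv' u hu])
    (fun a b => by
      rw [Finset.sum_sub_distrib]
      have e1 : ∑ u : P, f (ρ (a * u * b) v) = 0 := by
        have : ∀ u : P, f (ρ (a * u * b) v) = f (ρ a (ρ (u : G) (ρ b v))) := fun u => by
          rw [rho_mul, rho_mul]
        rw [Finset.sum_congr rfl fun u _ => this u, ← map_sum, ← map_sum, hρ, map_zero, map_zero]
      have e2 : ∑ u : P, f' (ρ' (a * u * b) v') = 0 := by
        have : ∀ u : P, f' (ρ' (a * u * b) v') = f' (ρ' a (ρ' (u : G) (ρ' b v'))) := fun u => by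
          rw [rho_mul, rho_mul]
        rw [Finset.sum_congr rfl fun u _ => this u, ← map_sum, ← map_sum, hρ', map_zero, map_zero]
      rw [e1, e2, sub_zero])
    (fun t ht => sub_eq_zero.2 (hw t ht)) g
  exact sub_eq_zero.1 h1

/-- A `P`-invariant form is determined by its values on `w E`. -/
theorem RO.form_zero (h : RO N P T w) {ρ : Representation K G W} (hirr : ρ.IsIrreducible)
    (hρ : Thin ρ P) {E : Submodule K W} (hE : E ≤ fx ρ P) (hT : ∀ t ∈ T, ∀ v ∈ E, ρ t v ∈ E)
    (hne : E ≠ ⊥) {f : W →ₗ[K] K} (hf : f ∈ dfx P ρ) (h0 : ∀ v ∈ E, f (ρ w v) = 0) : f = 0 := by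
  obtain ⟨v, hv, hv0⟩ := Submodule.exists_mem_ne_zero_of_ne_bot hne
  have h1 : ∀ g, f (ρ g v) = 0 := by
    intro g
    have := h.coef (ρ := ρ) (ρ' := ρ) hρ hρ (hE hv) (hE hv) hf (dfx P ρ).zero_mem (fun t ht => by
      rw [rho_mul, h0 _ (hT t ht v hv)]; rfl) g
    rw [this]; rfl
  let U : Submodule K W := ⨅ g : G, LinearMap.ker (f ∘ₗ ρ g)
  have hU : ∀ x, x ∈ U ↔ ∀ g, f (ρ g x) = 0 := fun x => by
    simp [U, Submodule.mem_iInf]
  have h2 : U = ⊤ := irr_top hirr U (fun g x hx => by
    rw [hU] at hx ⊢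
    intro a
    rw [← rho_mul]; exact hx _) (fun hb => hv0 (by
      rw [← Submodule.mem_bot K, ← hb, hU]; exact h1))
  ext x
  have h3 : x ∈ U := by rw [h2]; exact Submodule.mem_top
  have := (hU x).1 h3 1
  rwa [map_one] at this

variable {p : ℕ} [Fact p.Prime] [CharP K p] [FiniteDimensional K W] [FiniteDimensional K W']

/-- A `P`-fixed vector is determined by the values of the `P`-invariant forms on its `w`-image. -/
theorem RO.vec_zero (h : RO N P T w) (hP : IsPGroup p P) {ρ : Representation K G W}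
    (hirr : ρ.IsIrreducible) (hρ : Thin ρ P) {v : W} (hv : v ∈ fx ρ P)
    (h0 : ∀ f ∈ dfx P ρ, f (ρ w v) = 0) : v = 0 := by
  have := irr_nontrivial hirr
  obtain ⟨f, hf, hf0⟩ := Submodule.exists_mem_ne_zero_of_ne_bot (exists_dfx (W := W) hP ρ)
  by_contra hv0
  apply hf0
  -- `f (g v) = 0` for all `g`
  have h1 : ∀ g, f (ρ g v) = 0 := by
    intro g
    have := h.coef (ρ := ρ) (ρ' := ρ) hρ hρ hv hv hf (dfx P ρ).zero_mem (fun t ht => by
      -- `f (w t v) = f ((w t w⁻¹) w v)`
      have h2 : w * t = w * t * w⁻¹ * w := by group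
      have h3 : (f ∘ₗ ρ (w * t * w⁻¹)) ∈ dfx P ρ := by
        rw [mem_dfx]
        intro u hu x
        have h4 : (w * t * w⁻¹) * u * (w * t * w⁻¹)⁻¹ ∈ P := h.norm _ (h.hTN (h.wT t ht)) u hu
        have h5 : (w * t * w⁻¹) * u = ((w * t * w⁻¹) * u * (w * t * w⁻¹)⁻¹) * (w * t * w⁻¹) := by group
        rw [LinearMap.comp_apply, ← rho_mul, h5, rho_mul, mem_dfx.1 hf _ h4]; rfl
      have h6 := h0 _ h3
      rw [LinearMap.comp_apply, ← rho_mul, ← h2] at h6
      rw [h6]; rfl) g
    rw [this]; rfl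
  let U : Submodule K W := ⨅ g : G, LinearMap.ker (f ∘ₗ ρ g)
  have hU : ∀ x, x ∈ U ↔ ∀ g, f (ρ g x) = 0 := fun x => by
    simp [U, Submodule.mem_iInf]
  have h2 : U = ⊤ := irr_top hirr U (fun g x hx => by
    rw [hU] at hx ⊢
    intro a
    rw [← rho_mul]; exact hx _) (fun hb => hv0 (by
      rw [← Submodule.mem_bot K, ← hb, hU]; exact h1))
  ext x
  have h3 : x ∈ U := by rw [h2]; exact Submodule.mem_top
  have := (hU x).1 h3 1
  rwa [map_one] at this

theorem RO.finrank_fx_le (h : RO N P T w) (hP : IsPGroup p P) {ρ : Representation K G W}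
    (hirr : ρ.IsIrreducible) (hρ : Thin ρ P) : finrank K (fx ρ P) ≤ finrank K (dfx P ρ) := by
  rw [← Subspace.dual_finrank_eq (V := dfx P ρ)]
  let L : fx ρ P →ₗ[K] Dual K (dfx P ρ) :=
    { toFun := fun v =>
        { toFun := fun f => (f : W →ₗ[K] K) (ρ w v)
          map_add' := fun _ _ => rfl
          map_smul' := fun _ _ => rfl }
      map_add' := fun a b => by
        ext f
        show (f : W →ₗ[K] K) (ρ w ((a : W) + b)) = (f : W →ₗ[K] K) (ρ w a) + (f : W →ₗ[K] K) (ρ w b)
        rw [map_add, map_add]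
      map_smul' := fun c a => by
        ext f
        show (f : W →ₗ[K] K) (ρ w (c • (a : W))) = c • (f : W →ₗ[K] K) (ρ w a)
        rw [map_smul, map_smul] }
  apply LinearMap.finrank_le_finrank_of_injective (f := L)
  rw [← LinearMap.ker_eq_bot, LinearMap.ker_eq_bot']
  intro v hv
  apply Subtype.ext
  exact h.vec_zero hP hirr hρ v.2 (fun f hf => LinearMap.congr_fun hv ⟨f, hf⟩)

omit [Fact p.Prime] [CharP K p] in
/-- the map `f ↦ f (w ·)` -/
theorem RO.finrank_dfx_le (h : RO N P T w) {ρ : Representation K G W}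
    (hirr : ρ.IsIrreducible) (hρ : Thin ρ P) {E : Submodule K W} (hE : E ≤ fx ρ P)
    (hT : ∀ t ∈ T, ∀ v ∈ E, ρ t v ∈ E) (hne : E ≠ ⊥) : finrank K (dfx P ρ) ≤ finrank K E := by
  let L : dfx P ρ →ₗ[K] (E →ₗ[K] K) :=
    { toFun := fun f => (f : W →ₗ[K] K) ∘ₗ ρ w ∘ₗ E.subtype
      map_add' := fun a b => rfl
      map_smul' := fun c a => rfl }
  refine finrank_le_of_pairing (A := dfx P ρ) (B := E) L fun f hf => ?_
  apply Subtype.ext
  exact h.form_zero hirr hρ hE hT hne f.2 (fun v hv => hf ⟨v, hv⟩)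

/-- **The fixed points of a thin irreducible representation are irreducible.** -/
theorem RO.fix_irr (h : RO N P T w) (hP : IsPGroup p P) {ρ : Representation K G W}
    (hirr : ρ.IsIrreducible) (hρ : Thin ρ P) {E : Submodule K W} (hE : E ≤ fx ρ P)
    (hT : ∀ t ∈ T, ∀ v ∈ E, ρ t v ∈ E) (hne : E ≠ ⊥) : E = fx ρ P :=
  Submodule.eq_of_le_of_finrank_le hE
    ((h.finrank_fx_le hP hirr hρ).trans (h.finrank_dfx_le hirr hρ hE hT hne))

omit [FiniteDimensional K W] in
theorem RO.fx_ne_bot (hP : IsPGroup p P) {ρ : Representation K G W}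
    (hirr : ρ.IsIrreducible) : fx ρ P ≠ ⊥ := by
  have := irr_nontrivial hirr
  obtain ⟨v, -, hv0, hv⟩ := exists_fixed ρ P hP ⊤ (fun _ _ _ _ => Submodule.mem_top) top_ne_bot
  exact fun h1 => hv0 ((Submodule.mem_bot K).1 (h1 ▸ hv))

/-- Each linear form on the fixed points is `v ↦ f (w v)`. -/
theorem RO.exists_form (h : RO N P T w) (hP : IsPGroup p P) {ρ : Representation K G W}
    (hirr : ρ.IsIrreducible) (hρ : Thin ρ P) (α : fx ρ P →ₗ[K] K) :
    ∃ f ∈ dfx P ρ, ∀ v : fx ρ P, f (ρ w v) = α v := by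
  have hT : ∀ t ∈ T, ∀ v ∈ fx ρ P, ρ t v ∈ fx ρ P := fun t ht v hv => h.fx_stable ρ (h.hTN ht) hv
  let L : dfx P ρ →ₗ[K] (fx ρ P →ₗ[K] K) :=
    { toFun := fun f => (f : W →ₗ[K] K) ∘ₗ ρ w ∘ₗ (fx ρ P).subtype
      map_add' := fun a b => rfl
      map_smul' := fun c a => rfl }
  have hfr : finrank K (dfx P ρ) = finrank K (fx ρ P) :=
    le_antisymm (h.finrank_dfx_le hirr hρ le_rfl hT (RO.fx_ne_bot hP hirr))
      (h.finrank_fx_le hP hirr hρ)
  obtain ⟨f, hf⟩ := surj_of_pairing (A := dfx P ρ) (B := fx ρ P) L (fun f hf => Subtype.ext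
    (h.form_zero hirr hρ le_rfl hT (RO.fx_ne_bot hP hirr) f.2 (fun v hv => hf ⟨v, hv⟩))) hfr α
  exact ⟨f, f.2, fun v => hf v⟩

/-- **A thin irreducible representation is determined by its fixed points.** -/
theorem RO.equiv_of_fix [IsAlgClosed K] (h : RO N P T w) (hP : IsPGroup p P)
    {ρ : Representation K G W} {ρ' : Representation K G W'}
    (hirr : ρ.IsIrreducible) (hρ : Thin ρ P) (hirr' : ρ'.IsIrreducible) (hρ' : Thin ρ' P)
    (e : fx ρ P ≃ₗ[K] fx ρ' P)
    (he : ∀ t (ht : t ∈ T) (v : fx ρ P), (e ⟨ρ t v, h.fx_stable ρ (h.hTN ht) v.2⟩ : W') = ρ' t (e v)) :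
    ∃ e : W ≃ₗ[K] W', ∀ g v, e (ρ g v) = ρ' g (e v) := by
  by_contra hcon
  have := irr_nontrivial hirr
  obtain ⟨v, hv, hv0⟩ := Submodule.exists_mem_ne_zero_of_ne_bot (RO.fx_ne_bot hP hirr)
  obtain ⟨f, hf, hf0⟩ := Submodule.exists_mem_ne_zero_of_ne_bot (exists_dfx (W := W) hP ρ)
  obtain ⟨f', hf', hff⟩ := h.exists_form hP hirr' hρ'
    ((f ∘ₗ ρ w ∘ₗ (fx ρ P).subtype) ∘ₗ (e.symm : fx ρ' P →ₗ[K] fx ρ P))
  have hff' : ∀ x : fx ρ P, f' (ρ' w (e x)) = f (ρ w x) := fun x => by
    rw [hff (e x)]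
    simp
  have hall : ∀ g, f (ρ g v) = f' (ρ' g (e ⟨v, hv⟩)) := by
    refine h.coef hρ hρ' hv (e ⟨v, hv⟩).2 hf hf' fun t ht => ?_
    rw [rho_mul, rho_mul, ← he t ht ⟨v, hv⟩, hff']
  -- density
  obtain ⟨x, hx⟩ : ∃ x, f x ≠ 0 := by
    by_contra hall'
    push Not at hall'
    exact hf0 (LinearMap.ext hall')
  obtain ⟨α, hα⟩ : ∃ α : W →ₗ[K] K, α v = 1 := by
    by_contra hcon
    push Not at hcon
    apply hv0
    refine (Module.forall_dual_apply_eq_zero_iff K v).1 fun α => ?_
    by_contra hne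
    exact hcon ((α v)⁻¹ • α) (by rw [LinearMap.smul_apply, smul_eq_mul, inv_mul_cancel₀ hne])
  obtain ⟨a, ha1, ha2⟩ : ∃ a : MonoidAlgebra K G, ρ.asAlgebraHom a = α.smulRight x ∧
      ρ'.asAlgebraHom a = 0 := exists_alg_two hirr hirr' hcon _
  have h1 : ∀ a : MonoidAlgebra K G, f (ρ.asAlgebraHom a v) = f' (ρ'.asAlgebraHom a (e ⟨v, hv⟩)) := by
    intro a
    induction a using MonoidAlgebra.induction_linear with
    | zero => rw [map_zero, map_zero, LinearMap.zero_apply, LinearMap.zero_apply, map_zero, map_zero]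
    | add a b ha hb => rw [map_add, map_add, LinearMap.add_apply, LinearMap.add_apply, map_add, map_add, ha, hb]
    | single g c =>
      rw [Representation.asAlgebraHom_single, Representation.asAlgebraHom_single, LinearMap.smul_apply,
        LinearMap.smul_apply, map_smul, map_smul, hall]
  have h2 := h1 a
  rw [ha1, ha2, LinearMap.zero_apply, map_zero, LinearMap.smulRight_apply, hα, one_smul] at h2
  exact hx h2

end thin

end Cfsg.Agent.H608.TI
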