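import Mathlib
import Cfsg.Agent.H608.TI.Thin

/-!
# Central characters of thin representations, and representations which are not thin

* `RO.central`: the class sum of `g` acts on a thin irreducible representation as the sum of the conjugates of `g` in `N`
  acts on its `P`-fixed points;
* `RO.not_thin`: an irreducible representation which is not thin has a class `g` whose centralizer has order prime to `p`
  and whose class sum does not act as zero.
-/

set_option autoImplicit false

namespace Cfsg.Agent.H608.TI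

open Module

section sums

variable {G : Type*} [Group G] {P : Subgroup G} [Fintype P]

/-- Sums over a set on which `P` acts freely by conjugation. -/
theorem sum_free {A : Type*} [AddCommGroup A] (F : G → A)
    (hF : ∀ x, ∑ u : P, F (u * x * (u : G)⁻¹) = 0) (n : ℕ) : ∀ X : Finset G, X.card = n →
    (∀ u ∈ P, ∀ x ∈ X, u * x * u⁻¹ ∈ X) →
    (∀ x ∈ X, ∀ u ∈ P, u * x * u⁻¹ = x → u = 1) → ∑ x ∈ X, F x = 0 := by
  classical
  induction n using Nat.strong_induction_on with
  | _ n ih =>
    intro X hXn hX hfree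
    rcases X.eq_empty_or_nonempty with rfl | ⟨x₀, hx₀⟩
    · rfl
    · let O : Finset G := Finset.univ.image fun u : P => (u : G) * x₀ * (u : G)⁻¹
      have hO : O ⊆ X := by
        intro y hy
        obtain ⟨u, -, rfl⟩ := Finset.mem_image.1 hy
        exact hX u u.2 x₀ hx₀
      have hOcl : ∀ u ∈ P, ∀ x ∈ O, u * x * u⁻¹ ∈ O := by
        intro u hu x hx
        obtain ⟨v, -, rfl⟩ := Finset.mem_image.1 hx
        refine Finset.mem_image.2 ⟨⟨u, hu⟩ * v, Finset.mem_univ _, ?_⟩
        show u * v * x₀ * (u * v)⁻¹ = u * (v * x₀ * (v : G)⁻¹) * u⁻¹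
        group
      have hsumO : ∑ x ∈ O, F x = 0 := by
        rw [Finset.sum_image]
        · exact hF x₀
        · intro u _ v _ huv
          apply Subtype.ext
          have h1 : (v : G)⁻¹ * u * x₀ * ((v : G)⁻¹ * u)⁻¹ = x₀ := by
            have huv' : (u : G) * x₀ * (u : G)⁻¹ = v * x₀ * (v : G)⁻¹ := huv
            calc (v : G)⁻¹ * u * x₀ * ((v : G)⁻¹ * u)⁻¹ = (v : G)⁻¹ * (u * x₀ * (u : G)⁻¹) * v := by group
              _ = x₀ := by rw [huv']; group
          have h2 := hfree x₀ hx₀ _ (P.mul_mem (P.inv_mem v.2) u.2) h1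
          rw [inv_mul_eq_one] at h2; exact h2.symm
      have hxO : x₀ ∈ O := Finset.mem_image.2 ⟨1, Finset.mem_univ _, by simp⟩
      rw [← Finset.sum_sdiff hO, hsumO, add_zero]
      refine ih (X \ O).card ?_ _ rfl ?_ ?_
      · rw [← hXn]
        exact Finset.card_lt_card (Finset.sdiff_ssubset hO ⟨x₀, hxO⟩)
      · intro u hu x hx
        rw [Finset.mem_sdiff] at hx ⊢
        refine ⟨hX u hu x hx.1, fun hc => hx.2 ?_⟩
        have h1 := hOcl u⁻¹ (P.inv_mem hu) _ hc
        have h2 : u⁻¹ * (u * x * u⁻¹) * u⁻¹⁻¹ = x := by group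
        rwa [h2] at h1
      · intro x hx
        exact hfree x (Finset.mem_sdiff.1 hx).1

end sums

section central

variable {G : Type*} [Group G] {N P T : Subgroup G} {w : G}

theorem RO.centr (h : RO N P T w) {x u : G} (hx : x ∉ N) (hu : u ∈ P) (he : u * x * u⁻¹ = x) :
    u = 1 := by
  obtain ⟨a, ha, t, ht, b, hb, rfl⟩ := h.cell x hx
  have hs : t * b ∈ N := N.mul_mem (h.hTN ht) (h.hPN hb)
  have h1 : (t * b) * u * (t * b)⁻¹ ∈ P := h.norm _ hs u hu
  have h2 : w * ((t * b) * u * (t * b)⁻¹) * w⁻¹ = a⁻¹ * u * a := by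
    have h3 : (a * w * t * b) * u * (a * w * t * b)⁻¹ = u := by
      rw [mul_inv_eq_iff_eq_mul] at he
      rw [← he]; group
    have h4 : a⁻¹ * ((a * w * t * b) * u * (a * w * t * b)⁻¹) * a = a⁻¹ * u * a := by rw [h3]
    rw [← h4]; group
  have h5 := h.disj _ h1 (by
    rw [h2]; exact h.hPN (P.mul_mem (P.mul_mem (P.inv_mem ha) hu) ha))
  have : u = (t * b)⁻¹ * ((t * b) * u * (t * b)⁻¹) * (t * b) := by group
  rw [this, h5]; group

variable {K : Type*} [Field K] [Fintype P]
  {W : Type*} [AddCommGroup W] [Module K W] [FiniteDimensional K W]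
  {L : Type*} [AddCommGroup L] [Module K L] {p : ℕ} [Fact p.Prime] [CharP K p]

open Classical in
/-- **The central character of a thin irreducible representation.** -/
theorem RO.central [Fintype G] [Fintype N] (h : RO N P T w) (hP : IsPGroup p P)
    {ρ : Representation K G W} (hirr : ρ.IsIrreducible) (hρ : Thin ρ P) {μ : Representation K N L}
    (e : L ≃ₗ[K] fx ρ P) (he : ∀ (n : N) (x : L), ((e (μ n x) : fx ρ P) : W) = ρ n (e x))
    (g : G) {c : K}
    (hc : ∑ x : G, (if IsConj g x then (1 : K) else 0) • ρ x = c • (1 : Module.End K W)) :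
    ∑ n : N, (if IsConj g (n : G) then (1 : K) else 0) • μ n = c • (1 : Module.End K L) := by
  ext x
  rw [LinearMap.smul_apply, Module.End.one_apply]
  apply e.injective
  apply Subtype.ext
  -- the difference
  have hv := (e x).2
  have hd : ((e ((∑ n : N, (if IsConj g (n : G) then (1 : K) else 0) • μ n) x) : fx ρ P) : W) =
      ∑ n : N, (if IsConj g (n : G) then (1 : K) else 0) • ρ n (e x) := by
    rw [LinearMap.sum_apply, map_sum, Submodule.coe_sum]
    refine Finset.sum_congr rfl fun n _ => ?_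
    rw [LinearMap.smul_apply, map_smul, Submodule.coe_smul, he]
  rw [hd, map_smul, Submodule.coe_smul, ← sub_eq_zero]
  have hmem : ∑ n : N, (if IsConj g (n : G) then (1 : K) else 0) • ρ n (e x) - c • (e x : W) ∈ fx ρ P :=
    Submodule.sub_mem _ (Submodule.sum_mem _ fun n _ => Submodule.smul_mem _ _
      (h.fx_stable ρ n.2 hv)) (Submodule.smul_mem _ _ hv)
  refine h.vec_zero hP hirr hρ hmem fun f hf => ?_
  rw [mem_dfx] at hf
  rw [map_sub, map_sub, map_smul, map_smul]
  have h1 := congrArg (fun S : Module.End K W => f (ρ w (S (e x)))) hc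
  have h2 : f (ρ w ((c • (1 : Module.End K W)) (e x))) = c • f (ρ w (e x)) := by
    rw [LinearMap.smul_apply, Module.End.one_apply, map_smul, map_smul]
  beta_reduce at h1
  rw [h2] at h1
  rw [← h1, sub_eq_zero, LinearMap.sum_apply, map_sum, map_sum, map_sum, map_sum]
  -- split the sum over `G`
  let F : G → K := fun y => f (ρ w (ρ y (e x)))
  have hF : ∀ y, ∑ u : P, F (u * y * (u : G)⁻¹) = 0 := by
    intro y
    have h3 : ∀ u : P, F (u * y * (u : G)⁻¹) = f (ρ w (ρ u (ρ y (e x)))) := by
      intro u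
      show f (ρ w (ρ (u * y * (u : G)⁻¹) (e x))) = _
      rw [rho_mul, hv _ (P.inv_mem u.2), rho_mul]
    rw [Finset.sum_congr rfl fun u _ => h3 u, ← map_sum, ← map_sum, hρ, map_zero, map_zero]
  have h4 : ∀ y : G, f (ρ w (((if IsConj g y then (1 : K) else 0) • ρ y) (e x))) =
      if IsConj g y then F y else 0 := by
    intro y
    split_ifs
    · rw [one_smul]
    · rw [zero_smul, LinearMap.zero_apply, map_zero, map_zero]
  have h5 : ∀ n : N, f (ρ w ((if IsConj g (n : G) then (1 : K) else 0) • ρ n (e x))) =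
      if IsConj g (n : G) then F n else 0 := by
    intro y
    split_ifs
    · rw [one_smul]
    · rw [zero_smul, map_zero, map_zero]
  rw [Finset.sum_congr rfl fun y _ => h4 y, Finset.sum_congr rfl fun y _ => h5 y]
  have h6 : ∑ y : G, (if IsConj g y then F y else 0) =
      ∑ y ∈ Finset.univ.filter (fun y => y ∈ N), (if IsConj g y then F y else 0) +
      ∑ y ∈ Finset.univ.filter (fun y => y ∉ N), (if IsConj g y then F y else 0) :=
    (Finset.sum_filter_add_sum_filter_not _ _ _).symm
  have h7 : ∑ y ∈ Finset.univ.filter (fun y => y ∉ N), (if IsConj g y then F y else 0) = 0 := by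
    rw [← Finset.sum_filter]
    refine sum_free F hF _ _ rfl ?_ ?_
    · intro u hu y hy
      rw [Finset.mem_filter, Finset.mem_filter] at hy ⊢
      refine ⟨⟨Finset.mem_univ _, fun hn => hy.1.2 ?_⟩, ?_⟩
      · have := N.mul_mem (N.mul_mem (N.inv_mem (h.hPN hu)) hn) (h.hPN hu)
        have h8 : u⁻¹ * (u * y * u⁻¹) * u = y := by group
        rwa [h8] at this
      · exact hy.2.trans (isConj_iff.2 ⟨u, rfl⟩)
    · intro y hy u hu he
      rw [Finset.mem_filter, Finset.mem_filter] at hy
      exact h.centr hy.1.2 hu he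
  rw [h6, h7, add_zero]
  symm
  refine Finset.sum_bij' (fun y hy => ⟨y, (Finset.mem_filter.1 hy).2⟩) (fun n _ => (n : G))
    (fun _ _ => Finset.mem_univ _) (fun n _ => Finset.mem_filter.2 ⟨Finset.mem_univ _, n.2⟩)
    (fun _ _ => rfl) (fun _ _ => rfl) (fun _ _ => rfl)

end central

/-! ### Representations which are not thin -/

section notthin

variable {G : Type*} [Group G]

open Classical in
theorem sum_conj {A : Type*} [AddCommMonoid A] [Fintype G] (x : G) (F : G → A) :
    ∑ g : G, F (g * x * g⁻¹) = Nat.card (Subgroup.centralizer ({x} : Set G)) •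
      ∑ h : G, (if IsConj x h then F h else 0) := by
  have h1 : ∑ g : G, F (g * x * g⁻¹)
      = ∑ h : G, ∑ g ∈ Finset.univ.filter (fun g : G => g * x * g⁻¹ = h), F (g * x * g⁻¹) :=
    (Finset.sum_fiberwise Finset.univ (fun g : G => g * x * g⁻¹)
      (fun g => F (g * x * g⁻¹))).symm
  rw [h1, Finset.smul_sum]
  refine Finset.sum_congr rfl fun h _ => ?_
  split_ifs with hh
  · obtain ⟨c, hc⟩ := isConj_iff.1 hh
    have h3 : ∑ g ∈ Finset.univ.filter (fun g : G => g * x * g⁻¹ = h), F (g * x * g⁻¹)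
        = ((Finset.univ.filter (fun g : G => g * x * g⁻¹ = h)).card) • F h := by
      rw [← Finset.sum_const]
      refine Finset.sum_congr rfl fun g hg => ?_
      rw [(Finset.mem_filter.1 hg).2]
    rw [h3]
    congr 1
    rw [Nat.card_eq_fintype_card, ← Fintype.card_coe]
    refine Fintype.card_congr
      { toFun := fun g => ⟨c⁻¹ * g, ?_⟩
        invFun := fun g => ⟨c * g, ?_⟩
        left_inv := fun g => by simp
        right_inv := fun g => by simp }
    · have hg := (Finset.mem_filter.1 g.2).2.trans hc.symm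
      rw [Subgroup.mem_centralizer_singleton_iff]
      have : (c⁻¹ * (g : G)) * x * (c⁻¹ * (g : G))⁻¹ = x := by
        calc (c⁻¹ * (g : G)) * x * (c⁻¹ * (g : G))⁻¹ = c⁻¹ * ((g : G) * x * (g : G)⁻¹) * c := by group
          _ = x := by rw [hg]; group
      exact mul_inv_eq_iff_eq_mul.1 this
    · have hg := Subgroup.mem_centralizer_singleton_iff.1 g.2
      rw [Finset.mem_filter]
      refine ⟨Finset.mem_univ _, ?_⟩
      calc c * (g : G) * x * (c * (g : G))⁻¹ = c * ((g : G) * x * (g : G)⁻¹) * c⁻¹ := by group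
        _ = h := by rw [hg, mul_inv_cancel_right, hc]
  · rw [smul_zero]
    have : Finset.univ.filter (fun g : G => g * x * g⁻¹ = h) = ∅ := by
      rw [Finset.filter_eq_empty_iff]
      intro g _ hg
      exact hh (isConj_iff.2 ⟨g, hg⟩)
    rw [this, Finset.sum_empty]

/-- `G` as the product of `G ⧸ P` and `P`. -/
noncomputable def cosetEquiv (P : Subgroup G) : (G ⧸ P) × P ≃ G where
  toFun x := x.1.out * x.2
  invFun g := ((g : G ⧸ P), ⟨(g : G ⧸ P).out⁻¹ * g, by
    rw [← QuotientGroup.eq, QuotientGroup.out_eq']⟩)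
  left_inv := by
    rintro ⟨q, a⟩
    have h1 : ((q.out * (a : G) : G) : G ⧸ P) = q := by
      rw [QuotientGroup.mk_mul_of_mem _ a.2, QuotientGroup.out_eq']
    refine Prod.ext h1 (Subtype.ext ?_)
    show ((q.out * (a : G) : G) : G ⧸ P).out⁻¹ * (q.out * a) = a
    rw [h1, inv_mul_cancel_left]
  right_inv g := by
    show (g : G ⧸ P).out * ((g : G ⧸ P).out⁻¹ * g) = g
    rw [mul_inv_cancel_left]

variable {N P T : Subgroup G} {w : G} {K : Type*} [Field K] [Fintype P]
  {W : Type*} [AddCommGroup W] [Module K W] {p : ℕ} [Fact p.Prime] [CharP K p]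

/-- The norm. -/
def nm (ρ : Representation K G W) (P : Subgroup G) [Fintype P] (v : W) : W := ∑ u : P, ρ (u : G) v

omit [Fact p.Prime] [CharP K p] in
theorem nm_left (ρ : Representation K G W) {a : G} (ha : a ∈ P) (v : W) :
    ρ a (nm ρ P v) = nm ρ P v := by
  unfold nm
  rw [map_sum]
  refine Fintype.sum_equiv (Equiv.mulLeft (⟨a, ha⟩ : P)) _ _ fun u => ?_
  rw [← rho_mul]; rfl

omit [Fact p.Prime] [CharP K p] in
theorem nm_right (ρ : Representation K G W) {a : G} (ha : a ∈ P) (v : W) :
    nm ρ P (ρ a v) = nm ρ P v := by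
  unfold nm
  refine Fintype.sum_equiv (Equiv.mulRight (⟨a, ha⟩ : P)) _ _ fun u => ?_
  rw [← rho_mul]; rfl

omit [Fact p.Prime] [CharP K p] in
theorem RO.nm_comm (h : RO N P T w) (ρ : Representation K G W) {n : G} (hn : n ∈ N) (v : W) :
    nm ρ P (ρ n v) = ρ n (nm ρ P v) := by
  unfold nm
  rw [map_sum]
  have hmem : ∀ y : G, y ∈ P → n⁻¹ * y * n ∈ P := fun y hy => by
    have := h.norm _ (N.inv_mem hn) y hy
    rwa [inv_inv] at this
  let e : P ≃ P :=
    { toFun := fun u => ⟨n⁻¹ * u * n, hmem _ u.2⟩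
      invFun := fun u => ⟨n * u * n⁻¹, h.norm _ hn _ u.2⟩
      left_inv := fun u => Subtype.ext (by
        show n * (n⁻¹ * u * n) * n⁻¹ = (u : G)
        group)
      right_inv := fun u => Subtype.ext (by
        show n⁻¹ * (n * u * n⁻¹) * n = (u : G)
        group) }
  refine Fintype.sum_equiv e _ _ fun u => ?_
  show ρ (u : G) (ρ n v) = ρ n (ρ (n⁻¹ * u * n) v)
  rw [← rho_mul, ← rho_mul]
  congr 2
  group

omit [Fact p.Prime] [CharP K p] in
theorem nm_mem (ρ : Representation K G W) (v : W) : nm ρ P v ∈ fx ρ P := fun _ hu => nm_left ρ hu v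

/-- Not thin: the operator `v ↦ ∑ u w v` is injective on the fixed points. -/
theorem RO.nm_inj (h : RO N P T w) (hP : IsPGroup p P) (hP1 : P ≠ ⊥)
    {ρ : Representation K G W} (hirr : ρ.IsIrreducible) (hρ : ¬ Thin ρ P) {v : W}
    (hv : v ∈ fx ρ P) (h0 : nm ρ P (ρ w v) = 0) : v = 0 := by
  by_contra hv0
  apply hρ
  let D : Submodule K W :=
    { carrier := {x | ∀ g, nm ρ P (ρ g x) = 0}
      add_mem' := fun {a b} ha hb g => by
        have e1 : nm ρ P (ρ g a + ρ g b) = nm ρ P (ρ g a) + nm ρ P (ρ g b) := by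
          unfold nm
          rw [← Finset.sum_add_distrib]
          exact Finset.sum_congr rfl fun u _ => map_add _ _ _
        rw [map_add, e1, ha g, hb g, add_zero]
      zero_mem' := fun g => by
        rw [map_zero]
        unfold nm
        exact Finset.sum_eq_zero fun u _ => map_zero _
      smul_mem' := fun c x hx g => by
        have e1 : nm ρ P (c • ρ g x) = c • nm ρ P (ρ g x) := by
          unfold nm
          rw [Finset.smul_sum]
          exact Finset.sum_congr rfl fun u _ => map_smul _ _ _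
        rw [map_smul, e1, hx g, smul_zero] }
  have hDv : v ∈ D := by
    intro g
    by_cases hg : g ∈ N
    · rw [h.nm_comm ρ hg]
      have : nm ρ P v = 0 := by
        unfold nm
        rw [Finset.sum_congr rfl fun (u : P) _ => hv u u.2, Finset.sum_const, Finset.card_univ,
          ← Nat.cast_smul_eq_nsmul K]
        have hc : ((Fintype.card P : ℕ) : K) = 0 := by
          rw [CharP.cast_eq_zero_iff K p, ← Nat.card_eq_fintype_card]
          rcases hP.card_eq_or_dvd with h1 | h1
          · exact absurd (Subgroup.card_eq_one.1 h1) hP1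
          · exact h1
        rw [hc, zero_smul]
      rw [this, map_zero]
    · obtain ⟨u, hu, t, ht, u', hu', rfl⟩ := h.cell g hg
      have e1 : ρ (u * w * t * u') v = ρ u (ρ (w * t * w⁻¹) (ρ w v)) := by
        rw [rho_mul, hv u' hu', ← rho_mul, ← rho_mul]
        congr 2
        group
      rw [e1, nm_right ρ hu, h.nm_comm ρ (h.hTN (h.wT t ht)), h0, map_zero]
  have hD : D = ⊤ := irr_top hirr D (fun g x hx a => by rw [← rho_mul]; exact hx _)
    (fun hb => hv0 ((Submodule.mem_bot K).1 (hb ▸ hDv)))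
  intro x
  have hx : x ∈ D := by rw [hD]; exact Submodule.mem_top
  have := hx 1
  rwa [map_one] at this

/-- Left translation of functions on a group. -/
def lt (K : Type*) [Field K] (A : Type*) [Group A] (L : Type*) [AddCommGroup L] [Module K L] :
    Representation K A (A → L) where
  toFun g :=
    { toFun := fun φ x => φ (g⁻¹ * x)
      map_add' := fun _ _ => rfl
      map_smul' := fun _ _ => rfl }
  map_one' := by
    ext φ x
    simp
  map_mul' a b := by
    ext φ x
    show φ _ = φ _
    congr 1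
    simp [mul_assoc]

/-- **Irreducible representations which are not thin.** -/
theorem RO.exists_proj [FiniteDimensional K W] (h : RO N P T w) (hP : IsPGroup p P) (hP1 : P ≠ ⊥)
    {ρ : Representation K G W} (hirr : ρ.IsIrreducible) (hρ : ¬ Thin ρ P) :
    ∃ π : Module.End K W, ∀ x, ∑ a : P, ρ (a : G) (π (ρ (a : G)⁻¹ x)) = x := by
  classical
  -- the operator on the fixed points
  have hadd : ∀ a b : W, nm ρ P (a + b) = nm ρ P a + nm ρ P b := fun a b => by
    unfold nm
    rw [← Finset.sum_add_distrib]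
    exact Finset.sum_congr rfl fun u _ => map_add _ _ _
  have hsmul : ∀ (c : K) (b : W), nm ρ P (c • b) = c • nm ρ P b := fun a b => by
    unfold nm
    rw [Finset.smul_sum]
    exact Finset.sum_congr rfl fun u _ => map_smul _ _ _
  let 𝒯 : fx ρ P →ₗ[K] fx ρ P :=
    { toFun := fun v => ⟨nm ρ P (ρ w v), nm_mem ρ _⟩
      map_add' := fun a b => Subtype.ext (by
        show nm ρ P (ρ w ((a : W) + b)) = nm ρ P (ρ w a) + nm ρ P (ρ w b)
        rw [map_add, hadd])
      map_smul' := fun c a => Subtype.ext (by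
        show nm ρ P (ρ w (c • (a : W))) = c • nm ρ P (ρ w a)
        rw [map_smul, hsmul]) }
  have h𝒯i : Function.Injective 𝒯 := by
    intro a b hab
    rw [← sub_eq_zero]
    apply Subtype.ext
    refine h.nm_inj hP hP1 hirr hρ (a - b).2 ?_
    have h1 : 𝒯 (a - b) = 0 := by rw [map_sub, hab, sub_self]
    exact congrArg Subtype.val h1
  have h𝒯 : Function.Surjective 𝒯 := LinearMap.surjective_of_injective h𝒯i
  -- the map from the free module
  let Φ : (P → fx ρ P) →ₗ[K] W :=
    { toFun := fun φ => ∑ u : P, ρ (u : G) (ρ w (φ u))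
      map_add' := fun a b => by
        rw [← Finset.sum_add_distrib]
        refine Finset.sum_congr rfl fun u _ => ?_
        show ρ (u : G) (ρ w ((a u : W) + b u)) = _
        rw [map_add, map_add]
      map_smul' := fun c a => by
        rw [RingHom.id_apply, Finset.smul_sum]
        refine Finset.sum_congr rfl fun u _ => ?_
        show ρ (u : G) (ρ w (c • (a u : W))) = _
        rw [map_smul, map_smul] }
  have hΦ : ∀ φ, Φ φ = ∑ u : P, ρ (u : G) (ρ w (φ u)) := fun φ => rfl
  have hΦlt : ∀ (a : P) (φ : P → fx ρ P), Φ (lt K P (fx ρ P) a φ) = ρ (a : G) (Φ φ) := by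
    intro a φ
    rw [hΦ, hΦ, map_sum]
    refine (Fintype.sum_equiv (Equiv.mulLeft a) _ _ fun u => ?_).symm
    show ρ (a : G) (ρ (u : G) (ρ w (φ u))) = ρ ((a * u : P) : G) (ρ w (φ (a⁻¹ * (a * u))))
    rw [inv_mul_cancel_left, Subgroup.coe_mul, ← rho_mul, ← rho_mul]
  have hΦinj : Function.Injective Φ := by
    rw [← LinearMap.ker_eq_bot]
    by_contra hne
    have hPtop : IsPGroup p (⊤ : Subgroup P) := hP.to_subgroup ⊤
    obtain ⟨φ, hφ, hφ0, hφf⟩ := exists_fixed (lt K P (fx ρ P)) ⊤ hPtop (LinearMap.ker Φ)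
      (fun a _ φ hφ => by
        rw [LinearMap.mem_ker] at hφ ⊢
        rw [hΦlt, hφ, map_zero]) hne
    -- `φ` is constant
    have hconst : ∀ u : P, φ u = φ 1 := by
      intro u
      have h1 := congrFun (hφf u (Subgroup.mem_top u)) u
      have h2 : φ (u⁻¹ * u) = φ u := h1
      rw [inv_mul_cancel] at h2
      exact h2.symm
    apply hφ0
    have h3 : 𝒯 (φ 1) = 0 := by
      apply Subtype.ext
      show ∑ u : P, ρ (u : G) (ρ w (φ 1)) = 0
      rw [LinearMap.mem_ker, hΦ] at hφ
      rw [← hφ]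
      exact Finset.sum_congr rfl fun u _ => by rw [hconst u]
    have h4 : φ 1 = 0 := h𝒯i (h3.trans (map_zero 𝒯).symm)
    funext u
    rw [hconst u, h4]; rfl
  have hΦsurj : Function.Surjective Φ := by
    rw [← LinearMap.range_eq_top]
    have hfx : ∀ v ∈ fx ρ P, v ∈ LinearMap.range Φ := by
      intro v hv
      obtain ⟨v', hv'⟩ := h𝒯 ⟨v, hv⟩
      exact ⟨fun _ => v', congrArg Subtype.val hv'⟩
    have hcell : ∀ u ∈ P, ∀ v ∈ fx ρ P, ρ u (ρ w v) ∈ LinearMap.range Φ := by
      intro u hu v hv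
      refine ⟨Pi.single ⟨u, hu⟩ ⟨v, hv⟩, ?_⟩
      rw [hΦ, Finset.sum_eq_single (⟨u, hu⟩ : P)]
      · rw [Pi.single_eq_same]
      · intro b _ hb
        rw [Pi.single_eq_of_ne hb]
        show ρ (b : G) (ρ w (0 : W)) = 0
        rw [map_zero, map_zero]
      · intro hb; exact absurd (Finset.mem_univ _) hb
    have hall : ∀ g, ∀ v ∈ fx ρ P, ρ g v ∈ LinearMap.range Φ := by
      intro g v hv
      by_cases hg : g ∈ N
      · exact hfx _ (h.fx_stable ρ hg hv)
      · obtain ⟨u, hu, t, ht, u', hu', rfl⟩ := h.cell g hg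
        rw [rho_mul, hv u' hu', rho_mul, rho_mul]
        exact hcell u hu _ (h.fx_stable ρ (h.hTN ht) hv)
    refine irr_top hirr _ ?_ ?_
    · rintro g _ ⟨φ, rfl⟩
      rw [hΦ, map_sum]
      refine Submodule.sum_mem _ fun u _ => ?_
      rw [← rho_mul, ← rho_mul]
      exact hall _ _ (φ u).2
    · intro hb
      obtain ⟨v, hv, hv0⟩ := Submodule.exists_mem_ne_zero_of_ne_bot (RO.fx_ne_bot hP hirr)
      have := hfx v hv
      rw [hb, Submodule.mem_bot] at this
      exact hv0 this
  let Ψ : (P → fx ρ P) ≃ₗ[K] W := LinearEquiv.ofBijective Φ ⟨hΦinj, hΦsurj⟩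
  have hΨ : ∀ φ, Ψ φ = Φ φ := fun φ => rfl
  let π : Module.End K W :=
    { toFun := fun x => ρ w (Ψ.symm x 1)
      map_add' := fun a b => by
        rw [map_add]
        show ρ w ((Ψ.symm a 1 : W) + (Ψ.symm b 1 : W)) = _
        rw [map_add]
      map_smul' := fun c a => by
        rw [map_smul]
        show ρ w (c • (Ψ.symm a 1 : W)) = _
        rw [map_smul]; rfl }
  refine ⟨π, fun x => ?_⟩
  obtain ⟨φ, rfl⟩ := hΦsurj x
  have h1 : ∀ a : P, ρ (a : G) (π (ρ (a : G)⁻¹ (Φ φ))) = ρ (a : G) (ρ w (φ a)) := by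
    intro a
    have h2 : ρ (a : G)⁻¹ (Φ φ) = Φ (lt K P (fx ρ P) a⁻¹ φ) := (hΦlt a⁻¹ φ).symm
    rw [h2]
    show ρ (a : G) (ρ w (Ψ.symm (Φ (lt K P (fx ρ P) a⁻¹ φ)) 1)) = _
    rw [← hΨ, LinearEquiv.symm_apply_apply]
    show ρ (a : G) (ρ w (φ (a⁻¹⁻¹ * 1))) = _
    rw [inv_inv, mul_one]
  rw [Finset.sum_congr rfl fun a _ => h1 a]
  rfl

open Classical in
/-- An irreducible representation which is not thin has a class of `p`-defect zero whose sum does not act as zero. -/
theorem RO.not_thin [Fintype G] [IsAlgClosed K] [FiniteDimensional K W] (h : RO N P T w)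
    (hP : IsPGroup p P) (hP1 : P ≠ ⊥) (hidx : ¬ p ∣ P.index)
    {ρ : Representation K G W} (hirr : ρ.IsIrreducible) (hρ : ¬ Thin ρ P) :
    ∃ g : G, ¬ p ∣ Nat.card (Subgroup.centralizer ({g} : Set G)) ∧
      ∑ x : G, (if IsConj g x then (1 : K) else 0) • ρ x ≠ 0 := by
  obtain ⟨π, hπ⟩ := h.exists_proj hP hP1 hirr hρ
  by_contra hcon
  push Not at hcon
  have hnt := irr_nontrivial hirr
  -- the trace from `1` to `G`
  have htr : ∀ a : MonoidAlgebra K G, ∑ g : G, ρ g * ρ.asAlgebraHom a * ρ g⁻¹ = 0 := by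
    intro a
    induction a using MonoidAlgebra.induction_linear with
    | zero => simp
    | add a b ha hb =>
      rw [map_add]
      simp only [mul_add, add_mul, Finset.sum_add_distrib, ha, hb, add_zero]
    | single x c =>
      rw [Representation.asAlgebraHom_single]
      have h1 : ∀ g : G, ρ g * (c • ρ x) * ρ g⁻¹ = c • ρ (g * x * g⁻¹) := fun g => by
        rw [map_mul, map_mul, mul_smul_comm, smul_mul_assoc]
      rw [Finset.sum_congr rfl fun g _ => h1 g, ← Finset.smul_sum, sum_conj x (fun y => ρ y)]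
      by_cases hx : p ∣ Nat.card (Subgroup.centralizer ({x} : Set G))
      · rw [← Nat.cast_smul_eq_nsmul K, (CharP.cast_eq_zero_iff K p _).2 hx, zero_smul, smul_zero]
      · have h2 := hcon x hx
        have h3 : ∑ y : G, (if IsConj x y then ρ y else 0) = 0 := by
          have h4 : ∀ y : G, (if IsConj x y then ρ y else 0) =
              (if IsConj x y then (1 : K) else 0) • ρ y := by
            intro y
            split_ifs
            · rw [one_smul]
            · rw [zero_smul]
          rw [Finset.sum_congr rfl fun y _ => h4 y]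
          exact h2
        rw [h3, smul_zero, smul_zero]
  obtain ⟨a, ha⟩ := exists_alg hirr π
  have h1 := htr a
  rw [ha] at h1
  obtain ⟨v, hv⟩ := exists_ne (0 : W)
  have h2 : ∑ g : G, ρ g (π (ρ g⁻¹ v)) = 0 := by
    have := LinearMap.congr_fun h1 v
    rw [LinearMap.sum_apply, LinearMap.zero_apply] at this
    exact this
  have h3 : ∑ g : G, ρ g (π (ρ g⁻¹ v)) = P.index • v := by
    rw [← Fintype.sum_equiv (cosetEquiv P) (fun x : (G ⧸ P) × P =>
      ρ (x.1.out * x.2) (π (ρ (x.1.out * x.2)⁻¹ v))) _ (fun x => rfl), Fintype.sum_prod_type]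
    have h4 : ∀ q : G ⧸ P, ∑ a : P, ρ (q.out * a) (π (ρ (q.out * a)⁻¹ v)) = v := by
      intro q
      have h5 : ∀ a : P, ρ (q.out * a) (π (ρ (q.out * a)⁻¹ v)) =
          ρ q.out (ρ (a : G) (π (ρ (a : G)⁻¹ (ρ (q.out)⁻¹ v)))) := by
        intro a
        rw [rho_mul, mul_inv_rev, rho_mul ρ (a : G)⁻¹]
      rw [Finset.sum_congr rfl fun a _ => h5 a, ← map_sum, hπ, ← rho_mul, mul_inv_cancel, map_one]
      rfl
    rw [Finset.sum_congr rfl fun q _ => h4 q, Finset.sum_const, Finset.card_univ,
      Subgroup.index_eq_card, Nat.card_eq_fintype_card]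
  rw [h3, ← Nat.cast_smul_eq_nsmul K] at h2
  rcases smul_eq_zero.1 h2 with h4 | h4
  · exact hidx ((CharP.cast_eq_zero_iff K p _).1 h4)
  · exact hv h4

end notthin

end Cfsg.Agent.H608.TI
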