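import Mathlib
import Cfsg.Agent.H608.TI.Thin

/-!
# Existence of thin irreducible representations

* `RO.exists_thin`: each irreducible `N`-module with trivial action of `P` is the space of `P`-fixed points of a thin
  irreducible representation of `G`.
-/

set_option autoImplicit false

namespace Cfsg.Agent.H608.TI

open Module

section cells

variable {G : Type*} [Group G] {N P T : Subgroup G} {w : G}

theorem RO.cell_unique (h : RO N P T w) {u t u' a s a' : G} (hu : u ∈ P) (ht : t ∈ T) (hu' : u' ∈ P)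
    (ha : a ∈ P) (hs : s ∈ T) (ha' : a' ∈ P) (he : u * w * t * u' = a * w * s * a') : t = s := by
  have h1 : a⁻¹ * u = 1 := by
    apply h.disj' (P.mul_mem (P.inv_mem ha) hu)
    have h2 : w⁻¹ * (a⁻¹ * u) * w = s * a' * (u')⁻¹ * t⁻¹ := by
      have h3 : u * w = a * w * s * a' * u'⁻¹ * t⁻¹ := by rw [← he]; group
      calc w⁻¹ * (a⁻¹ * u) * w = w⁻¹ * a⁻¹ * (u * w) := by group
        _ = _ := by rw [h3]; group
    rw [h2]
    exact N.mul_mem (N.mul_mem (N.mul_mem (h.hTN hs) (h.hPN ha')) (N.inv_mem (h.hPN hu')))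
      (N.inv_mem (h.hTN ht))
  have h2 : u = a := by rw [inv_mul_eq_one] at h1; exact h1.symm
  subst h2
  have h3 : t * u' = s * a' := by
    have : w⁻¹ * u⁻¹ * (u * w * t * u') = w⁻¹ * u⁻¹ * (u * w * s * a') := by rw [he]
    have e1 : w⁻¹ * u⁻¹ * (u * w * t * u') = t * u' := by group
    have e2 : w⁻¹ * u⁻¹ * (u * w * s * a') = s * a' := by group
    rwa [e1, e2] at this
  have h4 : s⁻¹ * t = a' * u'⁻¹ := by
    have : s⁻¹ * (t * u') * u'⁻¹ = s⁻¹ * (s * a') * u'⁻¹ := by rw [h3]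
    have e1 : s⁻¹ * (t * u') * u'⁻¹ = s⁻¹ * t := by group
    have e2 : s⁻¹ * (s * a') * u'⁻¹ = a' * u'⁻¹ := by group
    rwa [e1, e2] at this
  have h5 : s⁻¹ * t = 1 := h.T_inf_P (T.mul_mem (T.inv_mem hs) ht)
    (by rw [h4]; exact P.mul_mem ha' (P.inv_mem hu'))
  rw [inv_mul_eq_one] at h5; exact h5.symm

theorem RO.dec_unique (h : RO N P T w) {t u s a : G} (ht : t ∈ T) (hu : u ∈ P)
    (hs : s ∈ T) (ha : a ∈ P) (he : t * u = s * a) : t = s := by
  have h4 : s⁻¹ * t = a * u⁻¹ := by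
    have : s⁻¹ * (t * u) * u⁻¹ = s⁻¹ * (s * a) * u⁻¹ := by rw [he]
    have e1 : s⁻¹ * (t * u) * u⁻¹ = s⁻¹ * t := by group
    have e2 : s⁻¹ * (s * a) * u⁻¹ = a * u⁻¹ := by group
    rwa [e1, e2] at this
  have h5 : s⁻¹ * t = 1 := h.T_inf_P (T.mul_mem (T.inv_mem hs) ht)
    (by rw [h4]; exact P.mul_mem ha (P.inv_mem hu))
  rw [inv_mul_eq_one] at h5; exact h5.symm

open Classical in
/-- The `T`-part. -/
noncomputable def RO.tp (h : RO N P T w) (g : G) : T :=
  if hg : g ∈ N then ⟨(h.dec g hg).choose, (h.dec g hg).choose_spec.1⟩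
  else ⟨(h.cell g hg).choose_spec.2.choose, (h.cell g hg).choose_spec.2.choose_spec.1⟩

theorem RO.tp_dec (h : RO N P T w) {t u : G} (ht : t ∈ T) (hu : u ∈ P) :
    (h.tp (t * u) : G) = t := by
  have hg : t * u ∈ N := N.mul_mem (h.hTN ht) (h.hPN hu)
  unfold RO.tp
  rw [dif_pos hg]
  obtain ⟨u', hu', he⟩ := (h.dec _ hg).choose_spec.2
  exact (h.dec_unique ht hu (h.dec _ hg).choose_spec.1 hu' he).symm

theorem RO.tp_cell (h : RO N P T w) {u t u' : G} (hu : u ∈ P) (ht : t ∈ T) (hu' : u' ∈ P) :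
    (h.tp (u * w * t * u') : G) = t := by
  have hg := h.not_mem hu ht hu'
  unfold RO.tp
  rw [dif_neg hg]
  obtain ⟨hs, a', ha', he⟩ := (h.cell _ hg).choose_spec.2.choose_spec
  exact (h.cell_unique hu ht hu' (h.cell _ hg).choose_spec.1 hs ha' he).symm

end cells

section exist

variable {K : Type*} [Field K] {G : Type*} [Group G] {N P T : Subgroup G} {w : G}
  {L : Type*} [AddCommGroup L] [Module K L]

/-- Right translation. -/
def rt (K : Type*) [Field K] (G : Type*) [Group G] (L : Type*) [AddCommGroup L] [Module K L] :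
    Representation K G (G → L) where
  toFun g :=
    { toFun := fun φ x => φ (x * g)
      map_add' := fun _ _ => rfl
      map_smul' := fun _ _ => rfl }
  map_one' := by
    ext φ x
    simp
  map_mul' a b := by
    ext φ x
    show φ _ = φ _
    congr 1
    simp [mul_assoc]

theorem rt_apply (g : G) (φ : G → L) (x : G) : rt K G L g φ x = φ (x * g) := rfl

/-- The action of `T` through `w`. -/
def RO.mw (h : RO N P T w) (μ : Representation K N L) (s : T) : Module.End K L :=
  μ ⟨w⁻¹ * s * w, h.hTN (h.wT' s s.2)⟩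

/-- The action of `T`. -/
def RO.mt (h : RO N P T w) (μ : Representation K N L) (s : T) : Module.End K L :=
  μ ⟨s, h.hTN s.2⟩

theorem RO.mw_mul (h : RO N P T w) (μ : Representation K N L) (s t : T) (x : L) :
    h.mw μ (s * t) x = h.mw μ s (h.mw μ t x) := by
  unfold RO.mw
  rw [← Module.End.mul_apply, ← map_mul]
  congr 2
  apply Subtype.ext
  show w⁻¹ * (s * t : G) * w = (w⁻¹ * s * w) * (w⁻¹ * t * w)
  group

theorem RO.mt_mul (h : RO N P T w) (μ : Representation K N L) (s t : T) (x : L) :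
    h.mt μ (s * t) x = h.mt μ s (h.mt μ t x) := by
  unfold RO.mt
  rw [← Module.End.mul_apply, ← map_mul]
  rfl

open Classical in
/-- The function on `G` with values `x` at `w` and `c` at `1`. -/
noncomputable def RO.phi (h : RO N P T w) (μ : Representation K N L) (x c : L) (g : G) : L :=
  if g ∈ N then h.mw μ (h.tp g) c else h.mt μ (h.tp g) x

theorem RO.phi_left (h : RO N P T w) (μ : Representation K N L) (x c : L) (s : T) (g : G) :
    h.phi μ x c (s * g) = h.mw μ s (h.phi μ x c g) := by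
  classical
  unfold RO.phi
  by_cases hg : g ∈ N
  · rw [if_pos hg, if_pos (N.mul_mem (h.hTN s.2) hg), ← h.mw_mul]
    obtain ⟨t, ht, u, hu, rfl⟩ := h.dec g hg
    have e1 : h.tp (s * (t * u)) = s * h.tp (t * u) := by
      apply Subtype.ext
      rw [Subgroup.coe_mul, h.tp_dec ht hu, ← mul_assoc, h.tp_dec (T.mul_mem s.2 ht) hu]
    rw [e1]
  · have hg' : (s : G) * g ∉ N := fun hn => hg (by
      have := N.mul_mem (N.inv_mem (h.hTN s.2)) hn
      rwa [inv_mul_cancel_left] at this)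
    rw [if_neg hg, if_neg hg']
    obtain ⟨u, hu, t, ht, u', hu', rfl⟩ := h.cell g hg
    have e1 : (h.tp ((s : G) * (u * w * t * u')) : G) = w⁻¹ * s * w * t := by
      have : (s : G) * (u * w * t * u') = (s * u * (s : G)⁻¹) * w * (w⁻¹ * s * w * t) * u' := by group
      rw [this]
      exact h.tp_cell (h.norm _ (h.hTN s.2) u hu) (T.mul_mem (h.wT' s s.2) ht) hu'
    unfold RO.mt RO.mw
    rw [← Module.End.mul_apply, ← map_mul]
    congr 2
    apply Subtype.ext
    show (h.tp ((s : G) * (u * w * t * u')) : G) = w⁻¹ * s * w * (h.tp (u * w * t * u') : G)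
    rw [e1, h.tp_cell hu ht hu']

theorem RO.phi_left_P (h : RO N P T w) (μ : Representation K N L) (x c : L) {a : G} (ha : a ∈ P)
    (g : G) : h.phi μ x c (a * g) = h.phi μ x c g := by
  classical
  unfold RO.phi
  by_cases hg : g ∈ N
  · rw [if_pos hg, if_pos (N.mul_mem (h.hPN ha) hg)]
    obtain ⟨t, ht, u, hu, rfl⟩ := h.dec g hg
    have e1 : h.tp (a * (t * u)) = h.tp (t * u) := by
      apply Subtype.ext
      have h1 : t⁻¹ * a * t ∈ P := by
        have := h.norm _ (N.inv_mem (h.hTN ht)) a ha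
        rwa [inv_inv] at this
      have : a * (t * u) = t * ((t⁻¹ * a * t) * u) := by group
      rw [this, h.tp_dec ht hu, h.tp_dec ht (P.mul_mem h1 hu)]
    rw [e1]
  · have hg' : a * g ∉ N := fun hn => hg (by
      have := N.mul_mem (N.inv_mem (h.hPN ha)) hn
      rwa [inv_mul_cancel_left] at this)
    rw [if_neg hg, if_neg hg']
    obtain ⟨u, hu, t, ht, u', hu', rfl⟩ := h.cell g hg
    have e1 : h.tp (a * (u * w * t * u')) = h.tp (u * w * t * u') := by
      apply Subtype.ext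
      have : a * (u * w * t * u') = (a * u) * w * t * u' := by group
      rw [this, h.tp_cell (P.mul_mem ha hu) ht hu', h.tp_cell hu ht hu']
    rw [e1]

theorem RO.phi_right_P (h : RO N P T w) (μ : Representation K N L) (x c : L) {a : G} (ha : a ∈ P)
    (g : G) : h.phi μ x c (g * a) = h.phi μ x c g := by
  classical
  unfold RO.phi
  by_cases hg : g ∈ N
  · rw [if_pos hg, if_pos (N.mul_mem hg (h.hPN ha))]
    obtain ⟨t, ht, u, hu, rfl⟩ := h.dec g hg
    have e1 : h.tp (t * u * a) = h.tp (t * u) := by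
      apply Subtype.ext
      rw [mul_assoc, h.tp_dec ht hu, h.tp_dec ht (P.mul_mem hu ha)]
    rw [e1]
  · have hg' : g * a ∉ N := fun hn => hg (by
      have := N.mul_mem hn (N.inv_mem (h.hPN ha))
      rwa [mul_inv_cancel_right] at this)
    rw [if_neg hg, if_neg hg']
    obtain ⟨u, hu, t, ht, u', hu', rfl⟩ := h.cell g hg
    have e1 : h.tp (u * w * t * u' * a) = h.tp (u * w * t * u') := by
      apply Subtype.ext
      rw [mul_assoc _ u' a, h.tp_cell hu ht hu', h.tp_cell hu ht (P.mul_mem hu' ha)]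
    rw [e1]

theorem RO.phi_w (h : RO N P T w) (μ : Representation K N L) (x c : L) :
    h.phi μ x c w = x := by
  unfold RO.phi
  rw [if_neg h.wN]
  have h1 := h.tp_cell P.one_mem T.one_mem P.one_mem
  rw [one_mul, mul_one, mul_one] at h1
  have h2 : h.tp w = 1 := Subtype.ext h1
  rw [h2]
  unfold RO.mt
  have : (⟨((1 : T) : G), h.hTN (1 : T).2⟩ : N) = 1 := rfl
  rw [this, map_one]; rfl

variable [Fintype P] {p : ℕ} [Fact p.Prime] [CharP K p]

/-- The values at `1` so that the sum over `w P w` vanishes. -/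
theorem RO.exists_c (h : RO N P T w) (μ : Representation K N L) (x : L) :
    ∃ c : L, ∑ u : P, h.phi μ x c (w * u * w) = 0 := by
  classical
  -- the terms with `u ≠ 1` do not depend on `c`
  have h1 : ∀ (c : L) (u : P), u ≠ 1 → h.phi μ x c (w * u * w) = h.phi μ x 0 (w * u * w) := by
    intro c u hu
    have h2 : w * (u : G) * w ∉ N := by
      intro hn
      apply hu
      apply Subtype.ext
      apply h.disj u u.2
      have h3 := N.mul_mem hn (N.inv_mem (h.hTN h.w2))
      have h4 : w * (u : G) * w * (w * w)⁻¹ = w * (u : G) * w⁻¹ := by group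
      rwa [h4] at h3
    unfold RO.phi
    rw [if_neg h2, if_neg h2]
  let S : L := ∑ u ∈ Finset.univ.erase (1 : P), h.phi μ x 0 (w * u * w)
  let ww : N := ⟨w * w, h.hTN h.w2⟩
  refine ⟨-(μ ww⁻¹ S), ?_⟩
  rw [← Finset.add_sum_erase _ _ (Finset.mem_univ (1 : P)),
    Finset.sum_congr rfl (fun u hu => h1 _ u (Finset.ne_of_mem_erase hu))]
  have h5 : h.phi μ x (-(μ ww⁻¹ S)) (w * ((1 : P) : G) * w) = -S := by
    have e1 : w * ((1 : P) : G) * w = (w * w) * 1 := by rw [Subgroup.coe_one]; group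
    rw [e1]
    unfold RO.phi
    rw [if_pos (by rw [mul_one]; exact h.hTN h.w2)]
    have e2 : (h.tp (w * w * 1) : G) = w * w := h.tp_dec h.w2 P.one_mem
    unfold RO.mw
    have e3 : (⟨w⁻¹ * (h.tp (w * w * 1) : G) * w, h.hTN (h.wT' _ (h.tp (w * w * 1)).2)⟩ : N) = ww := by
      apply Subtype.ext
      show w⁻¹ * (h.tp (w * w * 1) : G) * w = w * w
      rw [e2]; group
    rw [e3, map_neg, ← Module.End.mul_apply, ← map_mul, mul_inv_cancel, map_one, Module.End.one_apply]
  rw [h5]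
  exact neg_add_cancel S

/-- The covariant functions all of whose translates have vanishing `P`-sums. -/
def RO.Z (h : RO N P T w) (μ : Representation K N L) : Submodule K (G → L) where
  carrier := {φ | (∀ (s : T) g, φ (s * g) = h.mw μ s (φ g)) ∧ (∀ u ∈ P, ∀ g, φ (u * g) = φ g) ∧
    ∀ a b, ∑ u : P, φ (a * u * b) = 0}
  add_mem' := fun {φ ψ} hφ hψ => ⟨fun s g => by
      rw [Pi.add_apply, Pi.add_apply, map_add, hφ.1, hψ.1], fun u hu g => by
      rw [Pi.add_apply, Pi.add_apply, hφ.2.1 u hu, hψ.2.1 u hu], fun a b => by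
      simp only [Pi.add_apply, Finset.sum_add_distrib, hφ.2.2, hψ.2.2, add_zero]⟩
  zero_mem' := ⟨fun s g => by rw [Pi.zero_apply, Pi.zero_apply, map_zero], fun u _ g => rfl,
    fun a b => by simp⟩
  smul_mem' := fun k φ hφ => ⟨fun s g => by
      rw [Pi.smul_apply, Pi.smul_apply, map_smul, hφ.1], fun u hu g => by
      rw [Pi.smul_apply, Pi.smul_apply, hφ.2.1 u hu], fun a b => by
      simp only [Pi.smul_apply, ← Finset.smul_sum, hφ.2.2, smul_zero]⟩

theorem RO.Z_inv (h : RO N P T w) (μ : Representation K N L) (g : G) {φ : G → L}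
    (hφ : φ ∈ h.Z μ) : rt K G L g φ ∈ h.Z μ :=
  ⟨fun s x => by rw [rt_apply, rt_apply, mul_assoc, hφ.1], fun u hu x => by
    rw [rt_apply, rt_apply, mul_assoc, hφ.2.1 u hu], fun a b => by
    simp only [rt_apply, mul_assoc _ b g]; exact hφ.2.2 a (b * g)⟩

theorem card_cast_zero (hP : IsPGroup p P) (hP1 : P ≠ ⊥) : ((Fintype.card P : ℕ) : K) = 0 := by
  rw [CharP.cast_eq_zero_iff K p, ← Nat.card_eq_fintype_card]
  rcases hP.card_eq_or_dvd with h1 | h1
  · exact absurd (Subgroup.card_eq_one.1 h1) hP1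
  · exact h1

theorem RO.phi_mem (h : RO N P T w) (hP : IsPGroup p P) (hP1 : P ≠ ⊥) (μ : Representation K N L)
    (x : L) : ∃ c, h.phi μ x c ∈ h.Z μ := by
  classical
  obtain ⟨c, hc⟩ := h.exists_c μ x
  refine ⟨c, fun s g => h.phi_left μ x c s g, fun u hu g => h.phi_left_P μ x c hu g, ?_⟩
  have h0 : ∀ y : L, (Fintype.card P) • y = 0 := fun y => by
    rw [← Nat.cast_smul_eq_nsmul K, card_cast_zero hP hP1, zero_smul]
  -- reduce to `a = 1` and `a = w`
  have hw : ∀ b, ∑ u : P, h.phi μ x c (w * u * b) = 0 := by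
    intro b
    by_cases hb : b ∈ N
    · obtain ⟨t, ht, v, hv, rfl⟩ := h.dec b hb
      have h1 : ∀ u : P, h.phi μ x c (w * u * (t * v)) = h.phi μ x c (w * t) := by
        intro u
        have h2 : t⁻¹ * u * t ∈ P := by
          have := h.norm _ (N.inv_mem (h.hTN ht)) u u.2
          rwa [inv_inv] at this
        have : w * (u : G) * (t * v) = w * t * ((t⁻¹ * u * t) * v) := by group
        rw [this, h.phi_right_P μ x c (P.mul_mem h2 hv)]
      rw [Finset.sum_congr rfl fun u _ => h1 u, Finset.sum_const, Finset.card_univ, h0]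
    · obtain ⟨v, hv, t, ht, v', hv', rfl⟩ := h.cell b hb
      -- `w u v w t v'`
      have h3 : ∀ u : P, h.phi μ x c (w * u * (v * w * t * v')) =
          h.mw μ ⟨w * (w * t * w⁻¹) * w⁻¹, h.wT _ (h.wT t ht)⟩
            (h.phi μ x c (w * ((w * t * w⁻¹)⁻¹ * (u * v) * (w * t * w⁻¹)) * w)) := by
        intro u
        rw [← h.phi_left]
        have : w * (u : G) * (v * w * t * v') =
          (w * (w * t * w⁻¹) * w⁻¹) * (w * ((w * t * w⁻¹)⁻¹ * (u * v) * (w * t * w⁻¹)) * w) * v' := by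
          group
        rw [this, h.phi_right_P μ x c hv']
      rw [Finset.sum_congr rfl fun u _ => h3 u, ← map_sum]
      let s : G := w * t * w⁻¹
      have hs : s ∈ N := h.hTN (h.wT t ht)
      have hmem : ∀ y : G, y ∈ P → s⁻¹ * y * s ∈ P := fun y hy => by
        have := h.norm _ (N.inv_mem hs) y hy
        rwa [inv_inv] at this
      let e : P ≃ P :=
        { toFun := fun u => ⟨s⁻¹ * (u * v) * s, hmem _ (P.mul_mem u.2 hv)⟩
          invFun := fun u => ⟨s * u * s⁻¹ * v⁻¹, P.mul_mem (h.norm _ hs _ u.2) (P.inv_mem hv)⟩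
          left_inv := fun u => Subtype.ext (by
            show s * (s⁻¹ * (u * v) * s) * s⁻¹ * v⁻¹ = (u : G)
            group)
          right_inv := fun u => Subtype.ext (by
            show s⁻¹ * (s * u * s⁻¹ * v⁻¹ * v) * s = (u : G)
            group) }
      have h4 : ∑ u : P, h.phi μ x c (w * ((w * t * w⁻¹)⁻¹ * (u * v) * (w * t * w⁻¹)) * w) =
          ∑ u : P, h.phi μ x c (w * u * w) :=
        Fintype.sum_equiv e _ _ fun u => rfl
      rw [h4, hc, map_zero]
  intro a b
  by_cases ha : a ∈ N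
  · obtain ⟨t, ht, v, hv, rfl⟩ := h.dec a ha
    have h1 : ∀ u : P, h.phi μ x c (t * v * u * b) = h.mw μ ⟨t, ht⟩ (h.phi μ x c b) := by
      intro u
      have : t * v * (u : G) * b = ((⟨t, ht⟩ : T) : G) * ((v * u) * b) := by
        show _ = t * ((v * u) * b)
        group
      rw [this, h.phi_left, h.phi_left_P μ x c (P.mul_mem hv u.2)]
    rw [Finset.sum_congr rfl fun u _ => h1 u, Finset.sum_const, Finset.card_univ, h0]
  · obtain ⟨v, hv, t, ht, v', hv', rfl⟩ := h.cell a ha
    have h1 : ∀ u : P, h.phi μ x c (v * w * t * v' * u * b) =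
        h.mw μ ⟨w * t * w⁻¹, h.wT t ht⟩ (h.phi μ x c (w * (v' * u) * b)) := by
      intro u
      have : v * w * t * v' * (u : G) * b =
          v * (((⟨w * t * w⁻¹, h.wT t ht⟩ : T) : G) * (w * (v' * u) * b)) := by
        show _ = v * (w * t * w⁻¹ * (w * (v' * u) * b))
        group
      rw [this, h.phi_left_P μ x c hv, h.phi_left]
    rw [Finset.sum_congr rfl fun u _ => h1 u, ← map_sum]
    have h4 : ∑ u : P, h.phi μ x c (w * (v' * u) * b) = ∑ u : P, h.phi μ x c (w * u * b) :=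
      Fintype.sum_equiv (Equiv.mulLeft (⟨v', hv'⟩ : P)) _ _ fun u => rfl
    rw [h4, hw, map_zero]

/-- The subrepresentation on an invariant submodule. -/
def sub {W : Type*} [AddCommGroup W] [Module K W] (ρ : Representation K G W) (U : Submodule K W)
    (hU : ∀ g, ∀ v ∈ U, ρ g v ∈ U) : Representation K G U where
  toFun g := (ρ g).restrict (hU g)
  map_one' := by
    ext v
    simp
  map_mul' a b := by
    ext v
    show (ρ (a * b)) (v : W) = ρ a (ρ b v)
    rw [map_mul]; rfl

theorem sub_apply {W : Type*} [AddCommGroup W] [Module K W] (ρ : Representation K G W)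
    (U : Submodule K W) (hU : ∀ g, ∀ v ∈ U, ρ g v ∈ U) (g : G) (v : U) :
    (sub ρ U hU g v : W) = ρ g v := rfl

/-- A nonzero invariant submodule of finite dimension contains an irreducible one. -/
theorem exists_irr_sub {W : Type*} [AddCommGroup W] [Module K W] [FiniteDimensional K W]
    (ρ : Representation K G W) (Z : Submodule K W) (hZ : ∀ g, ∀ v ∈ Z, ρ g v ∈ Z) (hne : Z ≠ ⊥) :
    ∃ (U : Submodule K W) (hU : ∀ g, ∀ v ∈ U, ρ g v ∈ U), U ≤ Z ∧ (sub ρ U hU).IsIrreducible := by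
  classical
  let S : Set ℕ := {n | ∃ U : Submodule K W, (∀ g, ∀ v ∈ U, ρ g v ∈ U) ∧ U ≤ Z ∧ U ≠ ⊥ ∧
    finrank K U = n}
  have hS : S.Nonempty := ⟨_, Z, hZ, le_rfl, hne, rfl⟩
  obtain ⟨U, hU, hUZ, hUne, hfr⟩ := Nat.sInf_mem hS
  refine ⟨U, hU, hUZ, ?_⟩
  have : Nontrivial U := (Submodule.nontrivial_iff_ne_bot).2 hUne
  refine irr_of fun X hX => ?_
  by_cases h1 : X = ⊥
  · exact Or.inl h1
  · refine Or.inr ?_
    let X' : Submodule K W := X.map U.subtype
    have hX'U : X' ≤ U := Submodule.map_subtype_le U X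
    have hX' : X' ≠ ⊥ := fun hb => h1 (by
      rw [eq_bot_iff]
      intro v hv
      have h5 : (v : W) ∈ X' := ⟨v, hv, rfl⟩
      rw [hb, Submodule.mem_bot] at h5
      rw [Submodule.mem_bot]
      exact Subtype.ext h5)
    have hX'inv : ∀ g, ∀ v ∈ X', ρ g v ∈ X' := by
      rintro g _ ⟨v, hv, rfl⟩
      exact ⟨sub ρ U hU g v, hX g v hv, rfl⟩
    have h2 : sInf S ≤ finrank K X' := Nat.sInf_le ⟨X', hX'inv, hX'U.trans hUZ, hX', rfl⟩
    have h3 : X' = U := Submodule.eq_of_le_of_finrank_le hX'U (by rw [hfr]; exact h2)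
    rw [eq_top_iff]
    intro v hv
    have h4 : (v : W) ∈ X' := by rw [h3]; exact v.2
    obtain ⟨v', hv', he⟩ := h4
    have : v' = v := Subtype.ext he
    rwa [← this]

/-- **Existence of thin irreducible representations.** -/
theorem RO.exists_thin [Finite G] [FiniteDimensional K L] (h : RO N P T w) (hP : IsPGroup p P)
    (hP1 : P ≠ ⊥) {μ : Representation K N L} (hμ : μ.IsIrreducible)
    (hμP : ∀ u (hu : u ∈ P), μ ⟨u, h.hPN hu⟩ = 1) :
    ∃ (U : Submodule K (G → L)) (ρ : Representation K G U), ρ.IsIrreducible ∧ Thin ρ P ∧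
      ∃ e : L ≃ₗ[K] fx ρ P, ∀ (n : N) (x : L), ((e (μ n x) : fx ρ P) : U) = ρ n (e x) := by
  classical
  have := Fintype.ofFinite G
  have hnt := irr_nontrivial hμ
  obtain ⟨x₀, hx₀⟩ := exists_ne (0 : L)
  obtain ⟨c, hc⟩ := h.phi_mem hP hP1 μ x₀
  have hZne : h.Z μ ≠ ⊥ := by
    intro hb
    rw [hb, Submodule.mem_bot] at hc
    apply hx₀
    rw [← h.phi_w μ x₀ c, hc]; rfl
  obtain ⟨U, hU, hUZ, hirr⟩ := exists_irr_sub (rt K G L) (h.Z μ) (fun g v hv => h.Z_inv μ g hv) hZne
  refine ⟨U, sub (rt K G L) U hU, hirr, ?_, ?_⟩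
  · intro φ
    apply Subtype.ext
    funext x
    rw [Submodule.coe_sum, Finset.sum_apply]
    have := (hUZ φ.2).2.2 x 1
    simp only [mul_one] at this
    exact this
  · set ρ := sub (rt K G L) U hU with hρ
    -- evaluation at `w`
    let ev : fx ρ P →ₗ[K] L :=
      { toFun := fun φ => ((φ : U) : G → L) w
        map_add' := fun _ _ => rfl
        map_smul' := fun _ _ => rfl }
    have hright : ∀ (φ : fx ρ P), ∀ u ∈ P, ∀ g, ((φ : U) : G → L) (g * u) = ((φ : U) : G → L) g := by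
      intro φ u hu g
      have h1 := congrArg (fun ψ : U => (ψ : G → L) g) (φ.2 u hu)
      exact h1
    have hwt : ∀ (φ : fx ρ P) (t : G) (ht : t ∈ T), ((φ : U) : G → L) (w * t) =
        μ ⟨t, h.hTN ht⟩ (((φ : U) : G → L) w) := by
      intro φ t ht
      have h1 := (hUZ φ.1.2).1 ⟨w * t * w⁻¹, h.wT t ht⟩ w
      have h2 : ((⟨w * t * w⁻¹, h.wT t ht⟩ : T) : G) * w = w * t := by
        show w * t * w⁻¹ * w = w * t
        group
      rw [h2] at h1
      rw [h1]
      unfold RO.mw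
      congr 2
      apply Subtype.ext
      show w⁻¹ * (w * t * w⁻¹) * w = t
      group
    have hinj : Function.Injective ev := by
      have h00 : ∀ φ, ev φ = 0 → φ = 0 := by
        intro φ hφ
        apply Subtype.ext
        apply Subtype.ext
        funext g
        refine h.coef_zero (((φ : U) : G → L)) (hUZ φ.1.2).2.1 (hright φ) (hUZ φ.1.2).2.2
          (fun t ht => ?_) g
        have h0 : ((φ : U) : G → L) w = 0 := hφ
        rw [hwt φ t ht, h0, map_zero]
      intro φ ψ hφψ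
      rw [← sub_eq_zero]
      exact h00 _ (by rw [map_sub, hφψ, sub_self])
    have hfne : fx ρ P ≠ ⊥ := RO.fx_ne_bot hP hirr
    have hequiv : ∀ (n : N) (φ : fx ρ P),
        ev ⟨ρ n φ, h.fx_stable ρ n.2 φ.2⟩ = μ n (ev φ) := by
      intro n φ
      obtain ⟨t, ht, u, hu, hn⟩ := h.dec n n.2
      have h1 : ρ n (φ : U) = ρ t (φ : U) := by rw [hn, rho_mul, φ.2 u hu]
      have h2 : μ n = μ ⟨t, h.hTN ht⟩ := by
        have : n = ⟨t, h.hTN ht⟩ * ⟨u, h.hPN hu⟩ := Subtype.ext hn
        rw [this, map_mul, hμP u hu, mul_one]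
      show ((ρ n (φ : U) : U) : G → L) w = μ n (((φ : U) : G → L) w)
      rw [h1, h2, ← hwt φ t ht]
      rfl
    have hsurj : Function.Surjective ev := by
      rw [← LinearMap.range_eq_top]
      refine irr_top hμ _ ?_ ?_
      · rintro n _ ⟨φ, rfl⟩
        exact ⟨_, hequiv n φ⟩
      · intro hb
        apply hfne
        rw [LinearMap.range_eq_bot] at hb
        rw [eq_bot_iff]
        intro φ hφ
        have h1 : ev ⟨φ, hφ⟩ = 0 := by rw [hb]; rfl
        have h2 := hinj (h1.trans (map_zero ev).symm)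
        rw [Submodule.mem_bot]
        exact congrArg Subtype.val h2
    refine ⟨(LinearEquiv.ofBijective ev ⟨hinj, hsurj⟩).symm, fun n x => ?_⟩
    obtain ⟨φ, rfl⟩ := hsurj x
    rw [← hequiv]
    have e1 : ∀ ψ : fx ρ P, (LinearEquiv.ofBijective ev ⟨hinj, hsurj⟩).symm (ev ψ) = ψ := fun ψ =>
      (LinearEquiv.ofBijective ev ⟨hinj, hsurj⟩).symm_apply_apply ψ
    rw [e1, e1]

end exist

end Cfsg.Agent.H608.TI
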