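import Mathlib
import Cfsg.Agent.H608.TI.Exist
import Cfsg.Agent.H608.TI.Central
import Cfsg.Agent.H657.IBrBlock
import Cfsg.Agent.H609.TwoDefect
import Cfsg.Agent.Blocks.CliffordCentral
import Cfsg.Agent.Blocks.CentralizerSum

/-!
# Blocks of groups of rank one: `l(B) = l(b)`

`RO.blockRank_eq`: `P` a Sylow subgroup of `G`, `N = N_G(P)`, `RO N P T w`, `B` a block with defect group `P`, induced by
the block `b` of `N`. Then `blockRank p B = blockRank p b`.
-/

set_option autoImplicit false

namespace Cfsg.Agent.H608.TI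

open Cfsg IsLocalRing Module Cfsg.Agent.H657 Cfsg.Agent.H608.BlockRank

attribute [local instance] Above.isAlgClosed

section general

variable {K : Type*} [Field K] {G : Type*} [Group G] {P : Subgroup G}
  {W : Type*} [AddCommGroup W] [Module K W] {W' : Type*} [AddCommGroup W'] [Module K W']

/-- An equivalence of representations restricts to the fixed points. -/
def fxEquiv {ρ : Representation K G W} {ρ' : Representation K G W'} (e : W ≃ₗ[K] W')
    (he : ∀ g v, e (ρ g v) = ρ' g (e v)) : fx ρ P ≃ₗ[K] fx ρ' P where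
  toFun v := ⟨e v, fun u hu => by rw [← he, v.2 u hu]⟩
  map_add' a b := Subtype.ext (map_add e _ _)
  map_smul' c a := Subtype.ext (map_smul e _ _)
  invFun v := ⟨e.symm v, fun u hu => by
    apply e.injective
    rw [he, e.apply_symm_apply, v.2 u hu]⟩
  left_inv v := Subtype.ext (e.symm_apply_apply _)
  right_inv v := Subtype.ext (e.apply_symm_apply _)

/-- The normalizer acts on the fixed points. -/
def fxRep {N P : Subgroup G} (hst : ∀ (ρ : Representation K G W) (n : G), n ∈ N → ∀ v ∈ fx ρ P, ρ n v ∈ fx ρ P)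
    (ρ : Representation K G W) : Representation K N (fx ρ P) where
  toFun n := (ρ n).restrict (hst ρ n n.2)
  map_one' := by
    ext v
    show ρ ((1 : N) : G) (v : W) = v
    rw [Subgroup.coe_one, map_one]; rfl
  map_mul' a b := by
    ext v
    show ρ ((a * b : N) : G) (v : W) = ρ (a : G) (ρ (b : G) v)
    rw [Subgroup.coe_mul, map_mul]; rfl

end general

section ibr

variable {V : ValuationSubring ℂ} {G : Type*} [Group G]

/-- Each irreducible representation over the residue field is afforded by an element of `IBr`. -/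
theorem exists_ibr_of {W : Type*} [AddCommGroup W] [Module (ResidueField V) W]
    [FiniteDimensional (ResidueField V) W] {ρ : Representation (ResidueField V) G W}
    (hρ : ρ.IsIrreducible) : ∃ (i : IBr V G) (e : (Fin i.deg → ResidueField V) ≃ₗ[ResidueField V] W),
      ∀ g x, e (i.rep g x) = ρ g (e x) := by
  let f : W ≃ₗ[ResidueField V] (Fin (finrank (ResidueField V) W) → ResidueField V) :=
    (finBasis (ResidueField V) W).equivFun
  let i : IBr V G := ⟨fun g => LinearMap.trace (ResidueField V) _ (tr ρ f g), _, tr ρ f, tr_irr hρ f,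
    fun g => rfl⟩
  obtain ⟨e, he⟩ := equiv_of_trace i.rep (tr ρ f) i.rep_irr (tr_irr hρ f)
    (fun g => by rw [i.trace_rep])
  refine ⟨i, e.trans f.symm, fun g x => ?_⟩
  show f.symm (e (i.rep g x)) = ρ g (f.symm (e x))
  rw [he, LinearEquiv.symm_apply_eq, ← tr_apply, LinearEquiv.apply_symm_apply]

/-- Equivalent representations have the same trace. -/
theorem ibr_eq_of_equiv {i j : IBr V G}
    (e : (Fin i.deg → ResidueField V) ≃ₗ[ResidueField V] (Fin j.deg → ResidueField V))
    (he : ∀ g x, e (i.rep g x) = j.rep g (e x)) : i = j := by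
  apply Subtype.ext
  funext g
  rw [← i.trace_rep g, ← j.trace_rep g]
  have h1 : j.rep g = e.conj (i.rep g) := by
    apply LinearMap.ext
    intro v
    rw [LinearEquiv.conj_apply_apply, he, e.apply_symm_apply]
  rw [h1, LinearMap.trace_conj']

/-- The `P`-fixed points of `i` are `l`. -/
def Rel (N P : Subgroup G) (i : IBr V G) (l : IBr V N) : Prop :=
  ∃ e : (Fin l.deg → ResidueField V) ≃ₗ[ResidueField V] fx i.rep P,
    ∀ (n : N) x, ((e (l.rep n x) : fx i.rep P) : Fin i.deg → ResidueField V) = i.rep n (e x)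

theorem Rel.right_unique {N P : Subgroup G} {i : IBr V G} {l l' : IBr V N} (h : Rel N P i l)
    (h' : Rel N P i l') : l = l' := by
  obtain ⟨e, he⟩ := h
  obtain ⟨e', he'⟩ := h'
  refine ibr_eq_of_equiv (e.trans e'.symm) fun n x => ?_
  show e'.symm (e (l.rep n x)) = l'.rep n (e'.symm (e x))
  rw [LinearEquiv.symm_apply_eq]
  apply Subtype.ext
  rw [he, he', LinearEquiv.apply_symm_apply]

variable {N P T : Subgroup G} {w : G} [Fintype P] {p : ℕ} [Fact p.Prime] [CharP (ResidueField V) p]

theorem RO.left_unique (h : RO N P T w) (hP : IsPGroup p P) {i j : IBr V G} {l : IBr V N}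
    (hi : Thin i.rep P) (hj : Thin j.rep P) (hil : Rel N P i l) (hjl : Rel N P j l) : i = j := by
  obtain ⟨e, he⟩ := hil
  obtain ⟨e', he'⟩ := hjl
  obtain ⟨f, hf⟩ := h.equiv_of_fix hP i.rep_irr hi j.rep_irr hj (e.symm.trans e')
    (fun t ht v => by
      show ((e' (e.symm ⟨i.rep t v, _⟩) : fx j.rep P) : Fin j.deg → ResidueField V) =
        j.rep t (e' (e.symm v))
      have h1 : e.symm ⟨i.rep t v, h.fx_stable i.rep (h.hTN ht) v.2⟩ = l.rep ⟨t, h.hTN ht⟩ (e.symm v) := by
        rw [LinearEquiv.symm_apply_eq]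
        apply Subtype.ext
        rw [he, LinearEquiv.apply_symm_apply]
      rw [h1, he'])
  exact ibr_eq_of_equiv f hf

theorem RO.exists_right (h : RO N P T w) (hP : IsPGroup p P) {i : IBr V G} (hi : Thin i.rep P) :
    ∃ l : IBr V N, Rel N P i l := by
  have hst : ∀ (ρ : Representation (ResidueField V) G (Fin i.deg → ResidueField V)) (n : G), n ∈ N →
      ∀ v ∈ fx ρ P, ρ n v ∈ fx ρ P := fun ρ n hn v hv => h.fx_stable ρ hn hv
  have hne := RO.fx_ne_bot (p := p) hP i.rep_irr
  have hirr : (fxRep hst i.rep).IsIrreducible := by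
    have : Nontrivial (fx i.rep P) := (Submodule.nontrivial_iff_ne_bot).2 hne
    refine irr_of fun U hU => ?_
    by_cases h1 : U = ⊥
    · exact Or.inl h1
    · refine Or.inr ?_
      let U' : Submodule (ResidueField V) (Fin i.deg → ResidueField V) := U.map (fx i.rep P).subtype
      have hU' : U' = fx i.rep P := by
        refine h.fix_irr hP i.rep_irr hi (Submodule.map_subtype_le _ U) ?_ ?_
        · rintro t ht _ ⟨v, hv, rfl⟩
          exact ⟨_, hU ⟨t, h.hTN ht⟩ v hv, rfl⟩
        · intro hb
          apply h1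
          rw [eq_bot_iff]
          intro v hv
          have h5 : ((v : fx i.rep P) : Fin i.deg → ResidueField V) ∈ U' := ⟨v, hv, rfl⟩
          rw [hb, Submodule.mem_bot] at h5
          rw [Submodule.mem_bot]
          exact Subtype.ext h5
      rw [eq_top_iff]
      intro v _
      have h4 : ((v : fx i.rep P) : Fin i.deg → ResidueField V) ∈ U' := by rw [hU']; exact v.2
      obtain ⟨v', hv', he⟩ := h4
      have : v' = v := Subtype.ext he
      rwa [← this]
  obtain ⟨l, e, he⟩ := exists_ibr_of hirr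
  refine ⟨l, e, fun n x => ?_⟩
  rw [he]; rfl

/-- A normal `p`-subgroup acts trivially. -/
theorem rep_trivial {Y : Type*} [Group Y] (Q : Subgroup Y) [Q.Normal] [Finite Q] (hQ : IsPGroup p Q)
    {W : Type*} [AddCommGroup W] [Module (ResidueField V) W]
    {ρ : Representation (ResidueField V) Y W} (hρ : ρ.IsIrreducible) {u : Y} (hu : u ∈ Q) : ρ u = 1 := by
  have := irr_nontrivial hρ
  obtain ⟨v, -, hv0, hv⟩ := exists_fixed ρ Q hQ ⊤ (fun _ _ _ _ => Submodule.mem_top) top_ne_bot
  have h1 : fx ρ Q = ⊤ := by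
    refine irr_top hρ _ (fun g v hv u hu => ?_) (fun hb => hv0 ((Submodule.mem_bot _).1 (hb ▸ hv)))
    have h2 : g⁻¹ * u * g ∈ Q := by
      have := (inferInstance : Q.Normal).conj_mem u hu g⁻¹
      rwa [inv_inv] at this
    rw [← rho_mul, show u * g = g * (g⁻¹ * u * g) by group, rho_mul, hv _ h2]
  ext x
  have h2 : x ∈ fx ρ Q := by rw [h1]; exact Submodule.mem_top
  rw [h2 u hu]; rfl

theorem RO.exists_left [Finite G] (h : RO N P T w) (hP : IsPGroup p P) (hP1 : P ≠ ⊥) (l : IBr V N) :
    ∃ i : IBr V G, Thin i.rep P ∧ Rel N P i l := by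
  have hn : (P.subgroupOf N).Normal := ⟨fun a ha g => by
    rw [Subgroup.mem_subgroupOf] at ha ⊢
    exact h.norm g g.2 a ha⟩
  have hPp : IsPGroup p (P.subgroupOf N) := hP.comap_subtype
  obtain ⟨U, ρ, hirr, hthin, e, he⟩ := h.exists_thin hP hP1 l.rep_irr (fun u hu =>
    rep_trivial (P.subgroupOf N) hPp l.rep_irr (u := ⟨u, h.hPN hu⟩) (by
      rw [Subgroup.mem_subgroupOf]; exact hu))
  obtain ⟨i, f, hf⟩ := exists_ibr_of hirr
  refine ⟨i, fun v => ?_, (e.trans (fxEquiv f hf).symm), fun n x => ?_⟩
  · apply f.injective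
    rw [map_sum, map_zero, Finset.sum_congr rfl fun (u : P) _ => hf u v]
    exact hthin (f v)
  · have h1 : ∀ y : fx ρ P, (((fxEquiv f hf).symm y : fx i.rep P) : Fin i.deg → ResidueField V) = f.symm y :=
      fun y => rfl
    show (((fxEquiv f hf).symm (e (l.rep n x)) : fx i.rep P) : Fin i.deg → ResidueField V) =
      i.rep n ((fxEquiv f hf).symm (e x) : fx i.rep P)
    rw [h1, h1, he, LinearEquiv.symm_apply_eq, hf, f.apply_symm_apply]

end ibr

/-! ### The first main theorem -/

section firstMain

open Cfsg.Agent.Blocks.Basic Cfsg.Agent.Blocks.Local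

variable {G : Type*} [Group G] [Finite G] {p : ℕ} [Fact p.Prime] {M : Ideal AlgInt}

/-- A block of `N_G(P)` inducing a block with defect group `P` has defect group `P`. -/
theorem defect_of_induced (hM : IsPModular p M) {P : Subgroup G} (hP : IsPGroup p P)
    {B : Set (IrrCharacter G)} (hB : IsPBlock M B) (hBP : IsDefectGroup p M B P)
    {b : Set (IrrCharacter (Subgroup.normalizer (P : Set G)))}
    (hb : IsInducedBlock M (Subgroup.normalizer (P : Set G)) b B) :
    IsDefectGroup p M b (P.subgroupOf (Subgroup.normalizer (P : Set G))) := by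
  obtain ⟨D, hD⟩ := H609.TwoDefect.exists_defectGroup hM hb.1
  obtain ⟨E, hE, hDE⟩ := Cfsg.Agent.S0917.result p M hM _ _ hb.1 B hB hb D hD
  have hN : (P.subgroupOf (Subgroup.normalizer (P : Set G))).Normal := ⟨fun a ha g => by
    rw [Subgroup.mem_subgroupOf] at ha ⊢
    exact (Subgroup.mem_normalizer_iff.1 g.2 a).1 ha⟩
  have h4 : P.subgroupOf (Subgroup.normalizer (P : Set G)) ≤ D := by
    refine le_trans ?_ (Cfsg.Agent.S0912.result p M hM _ hb.1 D hD)
    exact le_sSup ⟨hN, hP.comap_subtype⟩
  have h5 : Nat.card D ≤ Nat.card (P.subgroupOf (Subgroup.normalizer (P : Set G))) := by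
    rw [Nat.card_congr (Subgroup.subgroupOfEquivOfLe Subgroup.le_normalizer).toEquiv,
      Cfsg.Agent.S0908.result p M hM B hB P hBP, ← Cfsg.Agent.S0908.result p M hM B hB E hE,
      Nat.card_congr (D.equivMapOfInjective _ (Subgroup.subtype_injective _)).toEquiv]
    exact Subgroup.card_le_of_le hDE
  have h6 := Subgroup.eq_of_le_of_card_ge h4 h5
  rw [h6]; exact hD

/-- **First main theorem, uniqueness.** -/
theorem uniq_induced (hM : IsPModular p M) {P : Subgroup G} (hP : IsPGroup p P)
    {B : Set (IrrCharacter G)} (hB : IsPBlock M B) (hBP : IsDefectGroup p M B P)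
    {b b' : Set (IrrCharacter (Subgroup.normalizer (P : Set G)))}
    (hb : IsInducedBlock M (Subgroup.normalizer (P : Set G)) b B)
    (hb' : IsInducedBlock M (Subgroup.normalizer (P : Set G)) b' B) : b = b' := by
  obtain ⟨b₀, -, huniq⟩ := (Cfsg.Agent.S0920.result p M hM P hP).2 B hB hBP
  rw [huniq b ⟨hb.1, defect_of_induced hM hP hB hBP hb, hb⟩,
    huniq b' ⟨hb'.1, defect_of_induced hM hP hB hBP hb', hb'⟩]

end firstMain

/-! ### Central characters -/

section cc

open Cfsg.Agent.Blocks.Basic Cfsg.Agent.Blocks.Local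

variable {G : Type*} [Group G]

/-- A representative of a class. -/
noncomputable def rp {Y : Type*} [Group Y] (c : ConjClasses Y) : Y := (ConjClasses.exists_rep c).choose

theorem mk_rp {Y : Type*} [Group Y] (c : ConjClasses Y) : ConjClasses.mk (rp c) = c :=
  (ConjClasses.exists_rep c).choose_spec

open Classical in
/-- Sums over the elements of a subgroup conjugate to `g`, by the classes of the subgroup. -/
theorem sum_classes {A : Type*} [AddCommMonoid A] (N : Subgroup G) [Fintype N]
    [Fintype (ConjClasses N)] (g : G) (F : N → A) :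
    ∑ h : N, (if IsConj g (h : G) then F h else 0) =
      ∑ c : ConjClasses N, (if IsConj g ((rp c : N) : G) then
        ∑ h : N, (if IsConj (rp c) h then F h else 0) else 0) := by
  rw [← Finset.sum_fiberwise Finset.univ (fun h : N => ConjClasses.mk h)]
  refine Finset.sum_congr rfl fun c _ => ?_
  have h1 : ∀ h : N, ConjClasses.mk h = c ↔ IsConj (rp c) h := by
    intro h
    rw [← ConjClasses.mk_eq_mk_iff_isConj]
    rw [mk_rp]
    exact eq_comm
  have h2 : ∀ h : N, ConjClasses.mk h = c → (IsConj g (h : G) ↔ IsConj g ((rp c : N) : G)) := by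
    intro h hh
    have h3 := (h1 h).1 hh
    have h4 : IsConj ((rp c : N) : G) (h : G) := MonoidHom.map_isConj N.subtype h3
    exact ⟨fun h5 => h5.trans h4.symm, fun h5 => h5.trans h4⟩
  rw [Finset.sum_congr rfl (fun h hh => by
    rw [if_congr (h2 h (Finset.mem_filter.1 hh).2) rfl rfl])]
  by_cases hc : IsConj g ((rp c : N) : G)
  · simp only [if_pos hc]
    rw [Finset.sum_filter]
    exact Finset.sum_congr rfl fun h _ => by rw [if_congr (h1 h) rfl rfl]
  · simp only [if_neg hc]
    exact Finset.sum_const_zero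

open Classical in
/-- The induced central character as a sum of central characters. -/
theorem inducedCentralChar_eq [Finite G] (N : Subgroup G) [Fintype (ConjClasses N)]
    (ξ : IrrCharacter N) (g : G) :
    inducedCentralChar N (ξ : N → ℂ) g =
      ∑ c : ConjClasses N, (if IsConj g ((rp c : N) : G) then
        centralChar (ξ : N → ℂ) (rp c) else 0) := by
  have := Fintype.ofFinite N
  rw [Blocks.CliffordCentral.inducedCentralChar_eq_sum]
  have hcl : ∀ x y : N, IsConj x y → (ξ : N → ℂ) y = (ξ : N → ℂ) x := by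
    intro x y hxy
    obtain ⟨c, rfl⟩ := isConj_iff.1 hxy
    exact Blocks.CliffordCentral.irr_conj ξ x c
  have h1 : ∀ h : N, Blocks.CliffordCentral.classInd g (h : G) * (ξ : N → ℂ) h =
      if IsConj g (h : G) then (ξ : N → ℂ) h else 0 := by
    intro h
    by_cases hc : IsConj g (h : G)
    · rw [Blocks.CliffordCentral.classInd_pos hc, if_pos hc, one_mul]
    · rw [Blocks.CliffordCentral.classInd_neg hc, if_neg hc, zero_mul]
  rw [Finset.sum_congr rfl fun h _ => h1 h, sum_classes N g, Finset.sum_div]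
  refine Finset.sum_congr rfl fun c _ => ?_
  have hs : ∑ h : N, (if IsConj (rp c) h then (ξ : N → ℂ) h else 0) =
      ((Subgroup.centralizer ({rp c} : Set N)).index : ℂ) * (ξ : N → ℂ) (rp c) := by
    rw [← Blocks.CliffordCentral.card_class_eq_index (rp c), ← nsmul_eq_mul, ← Finset.sum_const,
      Finset.sum_filter]
    refine Finset.sum_congr rfl fun h _ => ?_
    by_cases hh : IsConj (rp c) h
    · rw [if_pos hh, if_pos hh, hcl _ _ hh]
    · rw [if_neg hh, if_neg hh]
  split_ifs with hc
  · rw [hs]; rfl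
  · exact zero_div _

variable {V : ValuationSubring ℂ} {N P T : Subgroup G} {w : G} {p : ℕ} {M : Ideal AlgInt}

/-- **The block of `i` is induced by the block of its fixed points.** -/
theorem RO.induced_cc [Finite G] [Fintype P] (h : RO N P T w) (hM : IsPModular p M) (hV : Above M V)
    (hP : IsPGroup p P) {i : IBr V G} {l : IBr V N} (hi : Thin i.rep P) (hil : Rel N P i l)
    {χ : IrrCharacter G} {ξ : IrrCharacter N} (h1 : Under i (χ : G → ℂ)) (h2 : Under l (ξ : N → ℂ))
    (g : G) : MemLocalIdeal M (inducedCentralChar N (ξ : N → ℂ) g - centralChar (χ : G → ℂ) g) := by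
  classical
  have : Fact p.Prime := ⟨hM.1⟩
  have : CharP (ResidueField V) p := hV.charP hM
  have := Fintype.ofFinite G
  have := Fintype.ofFinite N
  have := Fintype.ofFinite (ConjClasses N)
  obtain ⟨e, he⟩ := hil
  have h3 := h.central hP i.rep_irr hi e he g (i.cc_spec g)
  -- by classes
  have h4 : ∑ n : N, (if IsConj g (n : G) then (1 : ResidueField V) else 0) • l.rep n =
      (∑ c : ConjClasses N, (if IsConj g ((rp c : N) : G) then l.cc (rp c) else 0)) •
        (1 : Module.End (ResidueField V) (Fin l.deg → ResidueField V)) := by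
    have key := sum_classes N g (fun n => l.rep n)
    refine (Finset.sum_congr rfl fun n _ => ?_).trans (key.trans ?_)
    · by_cases hc : IsConj g (n : G)
      · rw [if_pos hc, if_pos hc, one_smul]
      · rw [if_neg hc, if_neg hc, zero_smul]
    rw [Finset.sum_smul]
    refine Finset.sum_congr rfl fun c _ => ?_
    split_ifs
    · rw [← l.cc_spec (rp c)]
      refine Finset.sum_congr rfl fun n _ => ?_
      split_ifs
      · rw [one_smul]
      · rw [zero_smul]
    · rw [zero_smul]
  have hnt := irr_nontrivial l.rep_irr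
  have h5 : ∑ c : ConjClasses N, (if IsConj g ((rp c : N) : G) then l.cc (rp c) else 0) =
      i.cc g := smul_one_injective (h4.symm.trans h3)
  have hint : IsIntegral ℤ (inducedCentralChar N (ξ : N → ℂ) g) := by
    rw [inducedCentralChar_eq]
    refine IsIntegral.sum _ fun c _ => ?_
    split_ifs
    · exact Blocks.Central.isIntegral_centralChar ξ.2 _
    · exact isIntegral_zero
  have hint' := Blocks.Central.isIntegral_centralChar χ.2 g
  have hPr := isPrime_of_isPModular hM
  rw [← hV.nonunit_iff hM.2.1 (memLocalRing_sub (memLocalRing_of_isIntegral hint)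
    (memLocalRing_of_isIntegral hint'))]
  obtain ⟨z, hz, hz'⟩ := h1 g
  choose y hy hy' using fun c : ConjClasses N => h2 (rp c)
  let x : V := ∑ c : ConjClasses N, if IsConj g ((rp c : N) : G) then y c else 0
  have hx : (x : ℂ) = inducedCentralChar N (ξ : N → ℂ) g := by
    rw [inducedCentralChar_eq]
    show ((∑ c : ConjClasses N, if IsConj g ((rp c : N) : G) then y c else 0 : V) : ℂ) = _
    push_cast
    refine Finset.sum_congr rfl fun c _ => ?_
    split_ifs
    · exact hy c
    · rfl
  have hx' : residue V x = i.cc g := by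
    rw [← h5]
    show residue V (∑ c : ConjClasses N, if IsConj g ((rp c : N) : G) then y c else 0) = _
    rw [map_sum]
    refine Finset.sum_congr rfl fun c _ => ?_
    rw [apply_ite (residue V), map_zero, hy']
  have h6 : residue V (x - z) = 0 := by rw [map_sub, hx', hz', sub_self]
  rw [Above.residue_eq_zero_iff'] at h6
  rw [← hx, ← hz]
  simpa using h6

/-- In a block of full defect all irreducible representations are thin. -/
theorem RO.thin_of_block [Finite G] [Fintype P] (h : RO N P T w) (hM : IsPModular p M) (hV : Above M V)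
    (hP : IsPGroup p P) (hP1 : P ≠ ⊥) (hidx : ¬ p ∣ P.index) {B : Set (IrrCharacter G)}
    (hB : IsPBlock M B) (hBP : IsDefectGroup p M B P) {i : IBr V G} (hi : i ∈ ibrUnder V B) :
    Thin i.rep P := by
  classical
  have : Fact p.Prime := ⟨hM.1⟩
  have : CharP (ResidueField V) p := hV.charP hM
  have := Fintype.ofFinite G
  by_contra hcon
  obtain ⟨g, hg, hg'⟩ := h.not_thin hP hP1 hidx i.rep_irr hcon
  rw [i.cc_spec g] at hg'
  have hcc : i.cc g ≠ 0 := fun h0 => hg' (by rw [h0, zero_smul])
  obtain ⟨χ, hχ, hu⟩ := hi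
  obtain ⟨z, hz, hz'⟩ := hu g
  have h1 : ¬ MemLocalIdeal M (centralChar (χ : G → ℂ) g) := by
    intro hm
    apply hcc
    rw [← hz', Above.residue_eq_zero_iff', hz]
    exact hV.nonunit_of_local hM.2.1 hm
  obtain ⟨g₀, hg₀, S, hS⟩ := hBP
  obtain ⟨x, Q, hQ⟩ := (Cfsg.Agent.S0911.result p M hM B hB g₀ hg₀ S g).2 ⟨χ, hχ, h1⟩
  rw [← hS] at hQ
  apply hg
  have h2 : p ∣ Nat.card P := by
    rcases hP.card_eq_or_dvd with h1 | h1
    · exact absurd (Subgroup.card_eq_one.1 h1) hP1
    · exact h1
  have h3 : Nat.card (P.map (MulAut.conj x).toMonoidHom) = Nat.card P :=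
    (Nat.card_congr (P.equivMapOfInjective _ (MulAut.conj x).injective).toEquiv).symm
  refine (h2.trans (h3 ▸ Subgroup.card_dvd_of_le hQ)).trans ?_
  rw [← Nat.card_congr ((Q : Subgroup (Subgroup.centralizer ({g} : Set G))).equivMapOfInjective _
    (Subgroup.subtype_injective _)).toEquiv]
  exact Subgroup.card_subgroup_dvd_card _

end cc

/-! ### The main theorem -/

section main

open Cfsg.Agent.Blocks.Basic Cfsg.Agent.Blocks.Local

variable {G : Type*} [Group G] [Finite G] {p : ℕ} [Fact p.Prime] {M : Ideal AlgInt}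

omit [Finite G] [Fact p.Prime] in
theorem sameBlock_of_mem' [M.IsPrime] {B : Set (IrrCharacter G)} (hB : IsPBlock M B)
    {χ ψ : IrrCharacter G} (hχ : χ ∈ B) (hψ : ψ ∈ B) : SameBlock M (χ : G → ℂ) (ψ : G → ℂ) := by
  obtain ⟨η, rfl⟩ := hB
  intro g
  have h1 : MemLocalIdeal M (centralChar (η : G → ℂ) g - centralChar (χ : G → ℂ) g) := hχ g
  have h2 : MemLocalIdeal M (centralChar (η : G → ℂ) g - centralChar (ψ : G → ℂ) g) := hψ g
  exact memLocalIdeal_sub_trans (memLocalIdeal_sub_comm h1) h2

omit [Finite G] [Fact p.Prime] in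
theorem isUnion_of_isPBlock' [M.IsPrime] {B : Set (IrrCharacter G)} (hB : IsPBlock M B) :
    IsUnion M B := fun _ _ h hχ => isPBlock_mem_of_sameBlock hB hχ h

/-- **`l(B) = l(b)` for groups of rank one.** -/
theorem RO.blockRank_eq (hM : IsPModular p M) {P : Subgroup G} (hP : IsPGroup p P) (hP1 : P ≠ ⊥)
    (hidx : ¬ p ∣ P.index) {T : Subgroup G} {w : G}
    (h : RO (Subgroup.normalizer (P : Set G)) P T w) {B : Set (IrrCharacter G)}
    (hB : IsPBlock M B) (hBP : IsDefectGroup p M B P)
    {b : Set (IrrCharacter (Subgroup.normalizer (P : Set G)))}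
    (hb : IsInducedBlock M (Subgroup.normalizer (P : Set G)) b B) :
    blockRank p B = blockRank p b := by
  classical
  obtain ⟨V, hV⟩ := exists_above hM
  have hPr := isPrime_of_isPModular hM
  have : CharP (ResidueField V) p := hV.charP hM
  have := Fintype.ofFinite G
  have := Fintype.ofFinite P
  rw [blockRank_eq_card hM hV (isUnion_of_isPBlock' hB),
    blockRank_eq_card hM hV (isUnion_of_isPBlock' hb.1)]
  have hright : ∀ i : ibrUnder V B, ∃ l : ibrUnder V b,
      Rel (Subgroup.normalizer (P : Set G)) P (i : IBr V G) (l : IBr V _) := by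
    intro i
    have hthin := h.thin_of_block hM hV hP hP1 hidx hB hBP i.2
    obtain ⟨l, hl⟩ := h.exists_right hP hthin
    refine ⟨⟨l, ?_⟩, hl⟩
    obtain ⟨ξ, hξ⟩ := exists_under hM hV l
    obtain ⟨χ, hχ, hu⟩ := i.2
    have hind : IsInducedBlock M (Subgroup.normalizer (P : Set G))
        (blockOf M (ξ : Subgroup.normalizer (P : Set G) → ℂ)) B := by
      refine ⟨isPBlock_blockOf ξ, hB, fun ξ' hξ' χ' hχ' g => ?_⟩
      exact h.induced_cc hM hV hP hthin hl (hu.of_sameBlock hM hV χ'.2 (sameBlock_of_mem' hB hχ hχ'))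
        (hξ.of_sameBlock hM hV ξ'.2 hξ') g
    rw [uniq_induced hM hP hB hBP hb hind]
    exact ⟨ξ, mem_blockOf_self ξ, hξ⟩
  have hleft : ∀ l : ibrUnder V b, ∃ i : ibrUnder V B,
      Rel (Subgroup.normalizer (P : Set G)) P (i : IBr V G) (l : IBr V _) := by
    intro l
    obtain ⟨i, hthin, hil⟩ := h.exists_left hP hP1 (l : IBr V _)
    refine ⟨⟨i, ?_⟩, hil⟩
    obtain ⟨χ, hχ⟩ := exists_under hM hV i
    obtain ⟨ξ, hξ, hu⟩ := l.2
    have hind : IsInducedBlock M (Subgroup.normalizer (P : Set G)) b (blockOf M (χ : G → ℂ)) := by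
      refine ⟨hb.1, isPBlock_blockOf χ, fun ξ' hξ' χ' hχ' g => ?_⟩
      exact h.induced_cc hM hV hP hthin hil (hχ.of_sameBlock hM hV χ'.2 hχ')
        (hu.of_sameBlock hM hV ξ'.2 (sameBlock_of_mem' hb.1 hξ hξ')) g
    rw [Blocks.CentralizerSum.inducedBlock_unique hb hind]
    exact ⟨χ, mem_blockOf_self χ, hχ⟩
  choose f hf using hright
  refine Nat.card_congr (Equiv.ofBijective f ⟨fun i j hij => ?_, fun l => ?_⟩)
  · apply Subtype.ext
    have h1 := hf i
    rw [hij] at h1
    exact h.left_unique hP (h.thin_of_block hM hV hP hP1 hidx hB hBP i.2)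
      (h.thin_of_block hM hV hP hP1 hidx hB hBP j.2) h1 (hf j)
  · obtain ⟨i, hi⟩ := hleft l
    refine ⟨i, Subtype.ext ?_⟩
    exact (hf i).right_unique hi

end main

end Cfsg.Agent.H608.TI
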