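import Mathlib
import Cfsg.Agent.H608.TI.RankOne

/-!
# Groups with `1 + |P|` Sylow `p`-subgroups, `P` TI

* `exists_RO`: rank one data;
* `blockRank_eq_of_card`: `l(B) = l(b)` if `G` has `1 + |P|` Sylow `p`-subgroups and `P` is a TI-set.
-/

set_option autoImplicit false

namespace Cfsg.Agent.H608.TI

open Cfsg
open scoped Pointwise

variable {G : Type*} [Group G]

/-- The TI property. -/
def IsTI (P : Subgroup G) : Prop :=
  ∀ g : G, g ∉ Subgroup.normalizer (P : Set G) → P ⊓ (MulAut.conj g • P) = ⊥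

theorem IsTI.mem {P : Subgroup G} (h : IsTI P) {x g : G} (hx : x ∈ P) (hx1 : x ≠ 1)
    (hg : g⁻¹ * x * g ∈ P) : g ∈ Subgroup.normalizer (P : Set G) := by
  by_contra hcon
  have h1 : x ∈ P ⊓ (MulAut.conj g • P) := by
    refine Subgroup.mem_inf.2 ⟨hx, ?_⟩
    rw [Subgroup.mem_pointwise_smul_iff_inv_smul_mem, ← map_inv, MulAut.smul_def,
      MulAut.conj_apply, inv_inv]
    exact hg
  rw [h g hcon, Subgroup.mem_bot] at h1
  exact hx1 h1

/-- The centralizer of a nontrivial element of `P` normalizes `P`. -/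
theorem IsTI.centralizer_le {P : Subgroup G} (h : IsTI P) {x : G} (hx : x ∈ P) (hx1 : x ≠ 1) :
    Subgroup.centralizer ({x} : Set G) ≤ Subgroup.normalizer (P : Set G) := by
  intro g hg
  rw [Subgroup.mem_centralizer_singleton_iff] at hg
  apply h.mem hx hx1
  rw [mul_assoc, ← hg, inv_mul_cancel_left]
  exact hx

variable [Finite G] {p : ℕ} [Fact p.Prime]

/-- `P` acts freely on the other Sylow subgroups. -/
theorem free (P : Sylow p G) (hTI : IsTI (P : Subgroup G)) {Q : Sylow p G} (hQ : Q ≠ P) {u : G}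
    (hu : u ∈ (P : Subgroup G)) (he : u • Q = Q) : u = 1 := by
  by_contra hu1
  rw [Sylow.smul_eq_iff_mem_normalizer] at he
  have h1 : u ∈ (P : Subgroup G) ⊓ Q := by
    rw [← IsPGroup.inf_normalizer_sylow P.2 Q]
    exact Subgroup.mem_inf.2 ⟨hu, he⟩
  obtain ⟨g, rfl⟩ := MulAction.exists_smul_eq G P Q
  have h2 : g⁻¹ * u * g ∈ (P : Subgroup G) := by
    have h3 := (Subgroup.mem_inf.1 h1).2
    rw [Sylow.coe_subgroup_smul, Subgroup.mem_pointwise_smul_iff_inv_smul_mem, ← map_inv,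
      MulAut.smul_def, MulAut.conj_apply, inv_inv] at h3
    exact h3
  apply hQ
  rw [Sylow.smul_eq_iff_mem_normalizer]
  exact hTI.mem hu hu1 h2

/-- **Rank one data.** -/
theorem exists_RO (P : Sylow p G) (hTI : IsTI (P : Subgroup G))
    (hc : Nat.card (Sylow p G) = 1 + Nat.card P) :
    ∃ (T : Subgroup G) (w : G), RO (Subgroup.normalizer ((P : Subgroup G) : Set G)) P T w := by
  classical
  have := Fintype.ofFinite (Sylow p G)
  have := Fintype.ofFinite P
  -- `P` is transitive on the other Sylow subgroups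
  have htr : ∀ Q R : Sylow p G, Q ≠ P → R ≠ P → ∃ u ∈ (P : Subgroup G), u • Q = R := by
    intro Q R hQ hR
    let f : P → {S : Sylow p G // S ≠ P} := fun u => ⟨(u : G) • Q, fun h => hQ (by
      rw [← inv_smul_smul (u : G) Q, h, inv_smul_eq_iff, eq_comm, Sylow.smul_eq_iff_mem_normalizer]
      exact Subgroup.le_normalizer u.2)⟩
    have hf : Function.Injective f := by
      intro u v huv
      have h1 : (u : G) • Q = (v : G) • Q := congrArg Subtype.val huv
      have h2 : ((v : G)⁻¹ * u) • Q = Q := by rw [mul_smul, h1, inv_smul_smul]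
      have h3 := free P hTI hQ (mul_mem (inv_mem v.2) u.2) h2
      exact Subtype.ext (inv_mul_eq_one.1 h3).symm
    have hcard : Fintype.card P = Fintype.card {S : Sylow p G // S ≠ P} := by
      have h4 : Fintype.card {S : Sylow p G // S ≠ P} = Fintype.card (Sylow p G) - 1 := by
        rw [Fintype.card_subtype_compl, Fintype.card_subtype_eq]
      rw [h4, ← Nat.card_eq_fintype_card (α := Sylow p G), hc, Nat.card_eq_fintype_card]
      omega
    obtain ⟨u, hu⟩ := ((Fintype.bijective_iff_injective_and_card f).2 ⟨hf, hcard⟩).2 ⟨R, hR⟩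
    exact ⟨u, u.2, congrArg Subtype.val hu⟩
  -- another Sylow subgroup
  obtain ⟨Q, hQ⟩ : ∃ Q : Sylow p G, Q ≠ P := by
    by_contra hcon
    push Not at hcon
    have h1 : Nat.card (Sylow p G) ≤ 1 := by
      have : Subsingleton (Sylow p G) := ⟨fun a b => by rw [hcon a, hcon b]⟩
      exact Finite.card_le_one_iff_subsingleton.2 this
    have h2 : 0 < Nat.card P := Nat.card_pos
    omega
  -- the element `w`
  obtain ⟨w, hw1, hw2⟩ : ∃ w : G, w • P = Q ∧ w • Q = P := by
    obtain ⟨g, hg⟩ := MulAction.exists_smul_eq G P Q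
    -- `g Q ≠ Q`
    have h1 : g • Q ≠ Q := fun h => hQ (by rw [← hg] at h; exact (smul_left_cancel g h).symm ▸ hg.symm ▸ rfl)
    have h2 : g⁻¹ • (g • Q) ≠ P := by rw [inv_smul_smul]; exact hQ
    have h3 : g⁻¹ • P ≠ P := fun h => hQ (by
      rw [← hg]
      exact (eq_inv_smul_iff.1 h.symm))
    obtain ⟨u, hu, hue⟩ := htr (g⁻¹ • (g • Q)) (g⁻¹ • P) h2 h3
    refine ⟨g * u, ?_, ?_⟩
    · rw [mul_smul, (Sylow.smul_eq_iff_mem_normalizer).2 (Subgroup.le_normalizer hu), hg]
    · rw [inv_smul_smul] at hue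
      rw [mul_smul, hue, smul_inv_smul]
  have hwi1 : w⁻¹ • P = Q := by rw [inv_smul_eq_iff]; exact hw2.symm
  have hwi2 : w⁻¹ • Q = P := by rw [inv_smul_eq_iff]; exact hw1.symm
  have hN : ∀ g : G, g ∈ Subgroup.normalizer ((P : Subgroup G) : Set G) ↔ g • P = P := fun g =>
    Sylow.smul_eq_iff_mem_normalizer.symm
  let T : Subgroup G := MulAction.stabilizer G P ⊓ MulAction.stabilizer G Q
  have hT : ∀ g : G, g ∈ T ↔ g • P = P ∧ g • Q = Q := fun g => by
    rw [Subgroup.mem_inf, MulAction.mem_stabilizer_iff, MulAction.mem_stabilizer_iff]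
  have hdec : ∀ n, n • P = P → ∃ t ∈ T, ∃ u ∈ (P : Subgroup G), n = t * u := by
    intro n hn
    have h1 : n⁻¹ • Q ≠ P := fun h => hQ (by rw [inv_smul_eq_iff, hn] at h; exact h)
    obtain ⟨u, hu, hue⟩ := htr (n⁻¹ • Q) Q h1 hQ
    have huP : u • P = P := (Sylow.smul_eq_iff_mem_normalizer).2 (Subgroup.le_normalizer hu)
    refine ⟨n * u⁻¹, (hT _).2 ⟨?_, ?_⟩, u, hu, by group⟩
    · rw [mul_smul, show u⁻¹ • P = P by rw [inv_smul_eq_iff]; exact huP.symm, hn]
    · rw [mul_smul, show u⁻¹ • Q = n⁻¹ • Q by rw [inv_smul_eq_iff]; exact hue.symm, smul_inv_smul]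
  refine ⟨T, w, ?_⟩
  constructor
  · exact Subgroup.le_normalizer
  · intro t ht
    rw [hN]; exact ((hT t).1 ht).1
  · intro n hn u hu
    exact (Subgroup.mem_normalizer_iff.1 hn u).1 hu
  · intro t ht
    obtain ⟨h1, h2⟩ := (hT t).1 ht
    rw [hT]
    constructor
    · rw [mul_smul, mul_smul, hwi1, h2, hw2]
    · rw [mul_smul, mul_smul, hwi2, h1, hw1]
  · intro t ht
    obtain ⟨h1, h2⟩ := (hT t).1 ht
    rw [hT]
    constructor
    · rw [mul_smul, mul_smul, hw1, h2, hwi2]
    · rw [mul_smul, mul_smul, hw2, h1, hwi1]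
  · rw [hT]
    constructor
    · rw [mul_smul, hw1, hw2]
    · rw [mul_smul, hw2, hw1]
  · rw [hN, hw1]; exact hQ
  · intro n hn
    exact hdec n ((hN n).1 hn)
  · intro u hu hn
    rw [hN, mul_smul, mul_smul, hwi1] at hn
    -- `w u Q = P`, so `u Q = Q`
    have h1 : u • Q = Q := by
      rw [← hwi1]
      rw [← eq_inv_smul_iff] at hn
      rw [hwi1, hn, hwi1]
    exact free P hTI hQ hu h1
  · intro g hg
    rw [hN] at hg
    obtain ⟨u, hu, hue⟩ := htr Q (g • P) hQ hg
    have h1 : ((u * w)⁻¹ * g) • P = P := by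
      rw [mul_smul, ← hue, mul_inv_rev, mul_smul, inv_smul_smul, hwi2]
    obtain ⟨t, ht, u', hu', he⟩ := hdec _ h1
    refine ⟨u, hu, t, ht, u', hu', ?_⟩
    rw [mul_assoc (u * w), ← he]; group

/-- **`l(B) = l(b)` if there are `1 + |P|` Sylow subgroups.** -/
theorem blockRank_eq_of_card {M : Ideal AlgInt} (hM : IsPModular p M) (P : Sylow p G)
    (hP1 : (P : Subgroup G) ≠ ⊥) (hTI : IsTI (P : Subgroup G))
    (hc : Nat.card (Sylow p G) = 1 + Nat.card P) {B : Set (IrrCharacter G)}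
    (hB : IsPBlock M B) (hBP : IsDefectGroup p M B P)
    {b : Set (IrrCharacter (Subgroup.normalizer ((P : Subgroup G) : Set G)))}
    (hb : IsInducedBlock M (Subgroup.normalizer ((P : Subgroup G) : Set G)) b B) :
    blockRank p B = blockRank p b := by
  obtain ⟨T, w, h⟩ := exists_RO P hTI hc
  exact h.blockRank_eq hM P.2 hP1 P.not_dvd_index hB hBP hb

end Cfsg.Agent.H608.TI
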