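import Mathlib
import Cfsg.Agent.H608.TI.Group
import Cfsg.Agent.Blocks.BlockPart
import Cfsg.Agent.Characters.Brauer
import Cfsg.Agent.S0922

/-!
# Counting characters of blocks with TI defect group

* `card_eq`: `k(B) = l(B) + s(B)`, `s(B)` the dimension of the space of the restrictions of the members of `B` to the
  `p`-singular elements;
* `count`: `P` a TI Sylow subgroup, `B` a block with defect group `P`, induced by the block `b` of `N_G(P)`:
  `k(B) + l(b) = k(b) + l(B)`.
-/

set_option autoImplicit false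

namespace Cfsg.Agent.H608.TI

open Cfsg Module Cfsg.Agent.H608.BlockRank Cfsg.Agent.Blocks.Basic Cfsg.Agent.Blocks.Local
open scoped ComplexConjugate

universe u

section sing

variable {G : Type u} [Group G]

/-- The singular part of a function. -/
noncomputable def sg (p : ℕ) : (G → ℂ) →ₗ[ℂ] (G → ℂ) := LinearMap.id - pReg p

theorem sg_apply (p : ℕ) (θ : G → ℂ) : sg p θ = θ - pReg p θ := rfl

theorem sg_of_reg {p : ℕ} {g : G} (h : IsPRegular p g) (θ : G → ℂ) : sg p θ g = 0 := by
  rw [sg_apply, Pi.sub_apply, pReg_of h, sub_self]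

theorem sg_of_not {p : ℕ} {g : G} (h : ¬ IsPRegular p g) (θ : G → ℂ) : sg p θ g = θ g := by
  rw [sg_apply, Pi.sub_apply, pReg_of_not h, sub_zero]

theorem pReg_pReg {p : ℕ} (θ : G → ℂ) : pReg p (pReg p θ) = pReg p θ := by
  funext g
  by_cases h : IsPRegular p g
  · rw [pReg_of h]
  · rw [pReg_of_not h, pReg_of_not h]

theorem pReg_sg {p : ℕ} (θ : G → ℂ) : pReg p (sg p θ) = 0 := by
  rw [sg_apply, map_sub, pReg_pReg, sub_self]

variable [Finite G] {p : ℕ} {M : Ideal AlgInt}

theorem map_sg_le (hM : IsPModular p M) {B : Set (IrrCharacter G)} (hB : IsUnion M B) :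
    (charSpan B).map (sg p) ≤ charSpan B := by
  rintro _ ⟨θ, hθ, rfl⟩
  exact Submodule.sub_mem _ hθ (map_pReg_le hM hB ⟨θ, hθ, rfl⟩)

theorem mem_map_sg (hM : IsPModular p M) {B : Set (IrrCharacter G)} (hB : IsUnion M B) {θ : G → ℂ} :
    θ ∈ (charSpan B).map (sg p) ↔ θ ∈ charSpan B ∧ pReg p θ = 0 := by
  constructor
  · intro h
    refine ⟨map_sg_le hM hB h, ?_⟩
    obtain ⟨ψ, -, rfl⟩ := h
    exact pReg_sg ψ
  · rintro ⟨h1, h2⟩
    exact ⟨θ, h1, by rw [sg_apply, h2, sub_zero]⟩

/-- `k(B) = l(B) + s(B)`. -/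
theorem card_eq (hM : IsPModular p M) {B : Set (IrrCharacter G)} (hB : IsUnion M B) :
    Nat.card B = blockRank p B + finrank ℂ ((charSpan B).map (sg p)) := by
  have := Fintype.ofFinite G
  rw [← finrank_charSpan B, blockRank_eq]
  let L : charSpan B →ₗ[ℂ] (G → ℂ) := (pReg p).domRestrict (charSpan B)
  have h1 := LinearMap.finrank_range_add_finrank_ker L
  have h2 : LinearMap.range L = (charSpan B).map (pReg p) := LinearMap.range_domRestrict _ _
  have h3 : (LinearMap.ker L).map (charSpan B).subtype = (charSpan B).map (sg p) := by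
    ext θ
    rw [mem_map_sg hM hB]
    constructor
    · rintro ⟨ψ, hψ, rfl⟩
      exact ⟨ψ.2, LinearMap.mem_ker.1 hψ⟩
    · rintro ⟨h4, h5⟩
      exact ⟨⟨θ, h4⟩, LinearMap.mem_ker.2 h5, rfl⟩
  rw [← h3, ← h1, h2]
  congr 1
  exact (Submodule.equivMapOfInjective _ (charSpan B).injective_subtype (LinearMap.ker L)).finrank_eq

omit [Finite G] in
/-- The span of the characters outside. -/
theorem inner_zero [Fintype G] {B : Set (IrrCharacter G)} {ξ : IrrCharacter G} (hξ : ξ ∉ B) {θ : G → ℂ}
    (hθ : θ ∈ charSpan B) : classInner θ (ξ : G → ℂ) = 0 := by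
  unfold charSpan at hθ
  induction hθ using Submodule.span_induction with
  | mem θ h =>
    obtain ⟨χ, hχ, rfl⟩ := h
    exact Characters.Core.classInner_irr_ne χ.2 ξ.2 (fun h => hξ ((Subtype.ext h : χ = ξ) ▸ hχ))
  | zero => exact Characters.Core.classInner_zero_left _
  | add a b _ _ ha hb => rw [Characters.Core.classInner_add_left, ha, hb, add_zero]
  | smul c a _ ha => rw [Characters.Core.classInner_smul_left, ha, mul_zero]

/-- The decomposition of a class function along a set of characters. -/
theorem blockPart_mem [Fintype G] (B : Set (IrrCharacter G)) {θ : G → ℂ} (hθ : IsClassFunction G θ) :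
    θ - blockPart B θ ∈ charSpan Bᶜ := by
  classical
  have := Characters.Core.finite_irr (G := G)
  have : Fintype (IrrCharacter G) := Fintype.ofFinite _
  have h1 : blockPart B θ = ∑ χ : IrrCharacter G with χ ∈ B, classInner θ (χ : G → ℂ) • (χ : G → ℂ) := by
    funext g
    unfold blockPart
    rw [Cfsg.Agent.Blocks.Orthogonality.finsum_mem_eq_sum_filter, Finset.sum_apply]
    refine Finset.sum_congr rfl fun χ _ => ?_
    rw [Pi.smul_apply, smul_eq_mul]
    congr 1
    convert rfl
  have h2 : θ - blockPart B θ = ∑ χ : IrrCharacter G with χ ∉ B, classInner θ (χ : G → ℂ) • (χ : G → ℂ) := by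
    have h3 := Characters.Core.classFunction_eq_sum hθ
    rw [← Finset.sum_filter_add_sum_filter_not Finset.univ (fun χ : IrrCharacter G => χ ∈ B), ← h1] at h3
    exact sub_eq_of_eq_add' h3
  rw [h2]
  refine Submodule.sum_mem _ fun χ hχ => Submodule.smul_mem _ _ (Submodule.subset_span ⟨χ, ?_, rfl⟩)
  exact (Finset.mem_filter.1 hχ).2

end sing

section count

variable {G : Type u} [Group G] [Finite G] {p : ℕ} [Fact p.Prime] {M : Ideal AlgInt}

omit [Finite G] [Fact p.Prime] in
/-- The `p`-elements of `N_G(P)` lie in `P`. -/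
theorem mem_of_normalizer (P : Sylow p G) {z : G} (hz : ∃ k : ℕ, orderOf z = p ^ k)
    (hn : z ∈ Subgroup.normalizer ((P : Subgroup G) : Set G)) : z ∈ (P : Subgroup G) := by
  obtain ⟨k, hk⟩ := hz
  have hZ : IsPGroup p (Subgroup.zpowers z) := by
    apply IsPGroup.of_card (n := k)
    rw [Nat.card_zpowers, hk]
  have h1 : z ∈ Subgroup.zpowers z ⊓ (P : Subgroup G) := by
    rw [← IsPGroup.inf_normalizer_sylow hZ P]
    exact Subgroup.mem_inf.2 ⟨Subgroup.mem_zpowers z, hn⟩
  exact (Subgroup.mem_inf.1 h1).2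

/-- The `p`-part of a `p`-singular element of `N_G(P)`. -/
theorem ppart_mem (P : Sylow p G) {n z : G} (hn : n ∈ Subgroup.normalizer ((P : Subgroup G) : Set G))
    (hs : ¬ IsPRegular p n) (hz : IsPPart p n z) : z ∈ (P : Subgroup G) ∧ z ≠ 1 := by
  obtain ⟨m, hm⟩ := Blocks.PPart.exists_pow_eq (G := G) p
  obtain ⟨y, hy, hc, hk, hy'⟩ := hz
  have hz' : IsPPart p n z := ⟨y, hy, hc, hk, hy'⟩
  refine ⟨mem_of_normalizer P hk (by rw [← hm n z hz']; exact Subgroup.pow_mem _ hn m), fun h1 => hs ?_⟩
  rw [h1, one_mul] at hy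
  rw [← hy]; exact hy'

theorem centralizer_ppart_le (P : Sylow p G) (hTI : IsTI (P : Subgroup G)) {n z : G}
    (hn : n ∈ Subgroup.normalizer ((P : Subgroup G) : Set G))
    (hs : ¬ IsPRegular p n) (hz : IsPPart p n z) :
    Subgroup.centralizer ({z} : Set G) ≤ Subgroup.normalizer ((P : Subgroup G) : Set G) := by
  obtain ⟨h1, h2⟩ := ppart_mem P hn hs hz
  exact hTI.centralizer_le h1 h2

/-- Fusion of `p`-singular elements of `N_G(P)`. -/
theorem fusion (P : Sylow p G) (hTI : IsTI (P : Subgroup G)) {n g : G}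
    (hn : n ∈ Subgroup.normalizer ((P : Subgroup G) : Set G)) (hs : ¬ IsPRegular p n)
    (hg : g⁻¹ * n * g ∈ Subgroup.normalizer ((P : Subgroup G) : Set G)) :
    g ∈ Subgroup.normalizer ((P : Subgroup G) : Set G) := by
  obtain ⟨z, hz⟩ := Blocks.PPart.exists_isPPart p n
  obtain ⟨h1, h2⟩ := ppart_mem P hn hs hz
  have hz' : IsPPart p (g⁻¹ * n * g) (g⁻¹ * z * g) := by
    have := Blocks.PPart.isPPart_conj hz g⁻¹
    rwa [inv_inv] at this
  have hs' : ¬ IsPRegular p (g⁻¹ * n * g) := by
    have := (H657.isPRegular_conj (p := p) n g⁻¹)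
    rw [inv_inv] at this
    rwa [this]
  exact hTI.mem h1 h2 (ppart_mem P hg hs' hz').1

/-- Each `p`-singular element is conjugate to an element of `N_G(P)`. -/
theorem exists_conj (P : Sylow p G) (hTI : IsTI (P : Subgroup G)) {g : G} (hs : ¬ IsPRegular p g) :
    ∃ c : G, c * g * c⁻¹ ∈ Subgroup.normalizer ((P : Subgroup G) : Set G) := by
  obtain ⟨z, y, hzy, hc, ⟨k, hk⟩, hy⟩ := Blocks.PPart.exists_isPPart p g
  have hz1 : z ≠ 1 := fun h1 => hs (by
    rw [h1, one_mul] at hzy
    rw [← hzy]; exact hy)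
  have hZ : IsPGroup p (Subgroup.zpowers z) := by
    apply IsPGroup.of_card (n := k)
    rw [Nat.card_zpowers, hk]
  obtain ⟨Q, hQ⟩ := hZ.exists_le_sylow
  obtain ⟨c, hcQ⟩ := MulAction.exists_smul_eq G Q P
  have h1 : c * z * c⁻¹ ∈ (P : Subgroup G) := by
    rw [← hcQ, Sylow.coe_subgroup_smul, Subgroup.mem_pointwise_smul_iff_inv_smul_mem, ← map_inv,
      MulAut.smul_def, MulAut.conj_apply]
    have : c⁻¹ * (c * z * c⁻¹) * c⁻¹⁻¹ = z := by group
    rw [this]
    exact hQ (Subgroup.mem_zpowers z)
  have h2 : c * z * c⁻¹ ≠ 1 := fun h => hz1 (by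
    have : z = c⁻¹ * (c * z * c⁻¹) * c := by group
    rw [this, h]; group)
  refine ⟨c, hTI.centralizer_le h1 h2 ?_⟩
  rw [Subgroup.mem_centralizer_singleton_iff]
  have h3 : g * z = z * g := by
    rw [← hzy, mul_assoc, hc.eq.symm]
  calc c * g * c⁻¹ * (c * z * c⁻¹) = c * (g * z) * c⁻¹ := by group
    _ = c * z * c⁻¹ * (c * g * c⁻¹) := by rw [h3]; group

omit [Finite G] [Fact p.Prime] in
theorem isUnion_compl [M.IsPrime] {B : Set (IrrCharacter G)} (hB : IsUnion M B) : IsUnion M Bᶜ :=
  fun χ ψ h hχ hψ => hχ (hB ψ χ (fun g => memLocalIdeal_sub_comm (h g)) hψ)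

/-- The restriction to the normalizer. -/
def resN (P : Subgroup G) : (G → ℂ) →ₗ[ℂ] (Subgroup.normalizer (P : Set G) → ℂ) where
  toFun θ n := θ n
  map_add' _ _ := rfl
  map_smul' _ _ := rfl

omit [Finite G] in
theorem resN_apply (P : Subgroup G) (θ : G → ℂ) (n : Subgroup.normalizer (P : Set G)) :
    resN P θ n = θ n := rfl

omit [Finite G] in
theorem resN_class (P : Subgroup G) {θ : G → ℂ} (h : IsClassFunction G θ) :
    IsClassFunction (Subgroup.normalizer (P : Set G)) (resN P θ) := fun g x => h g x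

omit [Finite G] [Fact p.Prime] in
theorem reg_coe {H : Subgroup G} (n : H) : IsPRegular p (n : G) ↔ IsPRegular p n := by
  unfold IsPRegular
  rw [Subgroup.orderOf_coe]

omit [Finite G] [Fact p.Prime] in
theorem sg_class {θ : G → ℂ} (h : IsClassFunction G θ) : IsClassFunction G (sg p θ) := by
  intro g x
  by_cases hg : IsPRegular p g
  · rw [sg_of_reg hg, sg_of_reg ((H657.isPRegular_conj g x).2 hg)]
  · rw [sg_of_not hg, sg_of_not (fun h' => hg ((H657.isPRegular_conj g x).1 h')), h]

/-- The singular part of the restriction of a character outside the induced block. -/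
theorem key (hM : IsPModular p M) (P : Sylow p G) (hTI : IsTI (P : Subgroup G)) [Fintype (Subgroup.normalizer ((P : Subgroup G) : Set G))]
    {b : Set (IrrCharacter (Subgroup.normalizer ((P : Subgroup G) : Set G)))} {B' : Set (IrrCharacter G)} (hind : IsInducedBlock M (Subgroup.normalizer ((P : Subgroup G) : Set G)) b B')
    {χ : IrrCharacter G} (hχ : χ ∉ B') {ξ : IrrCharacter (Subgroup.normalizer ((P : Subgroup G) : Set G))} (hξ : ξ ∈ b) :
    classInner (sg p (resN (P : Subgroup G) (χ : G → ℂ))) (ξ : (Subgroup.normalizer ((P : Subgroup G) : Set G)) → ℂ) = 0 := by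
  classical
  have hMp := isPrime_of_isPModular hM
  have hcl : IsClassFunction (Subgroup.normalizer ((P : Subgroup G) : Set G)) (resN (P : Subgroup G) (χ : G → ℂ)) :=
    resN_class _ (irr_isClassFunction χ.2)
  have h0 : sg p (blockPart b (resN (P : Subgroup G) (χ : G → ℂ))) = 0 := by
    funext n
    by_cases hn : IsPRegular p n
    · rw [sg_of_reg hn]; rfl
    · rw [sg_of_not hn, Blocks.BlockPart.blockPart_eq_sum b hcl n, ← finsum_eq_sum_of_fintype]
      exact Cfsg.Agent.S0922.result p M hM (Subgroup.normalizer ((P : Subgroup G) : Set G)) b B' hind n (fun z hz =>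
        centralizer_ppart_le P hTI n.2 (by rwa [reg_coe]) hz) χ hχ
  have h1 : sg p (resN (P : Subgroup G) (χ : G → ℂ)) =
      sg p (resN (P : Subgroup G) (χ : G → ℂ) - blockPart b (resN (P : Subgroup G) (χ : G → ℂ))) := by
    rw [map_sub, h0, sub_zero]
  rw [h1]
  refine inner_zero (B := bᶜ) (fun h => h hξ) ?_
  exact map_sg_le hM (isUnion_compl (isUnion_of_isPBlock hind.1)) ⟨_, blockPart_mem b hcl, rfl⟩

omit [Finite G] in
theorem centralizer_le_norm (P : Subgroup G) :
    Subgroup.centralizer (P : Set G) ≤ Subgroup.normalizer (P : Set G) :=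
  Subgroup.centralizer_le_normalizer _

/-- **Second main theorem for the normalizer of a TI Sylow subgroup.** -/
theorem res_mem (hM : IsPModular p M) (P : Sylow p G) (hTI : IsTI (P : Subgroup G))
    {B : Set (IrrCharacter G)} (hB : IsPBlock M B) (hBP : IsDefectGroup p M B P)
    {b : Set (IrrCharacter (Subgroup.normalizer ((P : Subgroup G) : Set G)))} (hb : IsInducedBlock M (Subgroup.normalizer ((P : Subgroup G) : Set G)) b B)
    {χ : IrrCharacter G} (hχ : χ ∈ B) : sg p (resN (P : Subgroup G) (χ : G → ℂ)) ∈ charSpan b := by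
  classical
  have hMp := isPrime_of_isPModular hM
  have := Fintype.ofFinite (Subgroup.normalizer ((P : Subgroup G) : Set G))
  refine mem_charSpan_of_classInner (sg_class (resN_class _ (irr_isClassFunction χ.2))) fun ξ hξ => ?_
  obtain ⟨B', hB'⟩ := Cfsg.Agent.S0919.result p M hM P (Subgroup.normalizer ((P : Subgroup G) : Set G)) P.2 Subgroup.le_normalizer
    (centralizer_le_norm _) le_rfl (blockOf M (ξ : (Subgroup.normalizer ((P : Subgroup G) : Set G)) → ℂ)) (isPBlock_blockOf ξ)
  refine key hM P hTI hB' (fun h => hξ ?_) (mem_blockOf_self ξ)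
  have h1 : B' = B := isPBlock_eq_of_mem hB'.2.1 hB h hχ
  rw [h1] at hB'
  rw [uniq_induced hM P.2 hB hBP hb hB']
  exact mem_blockOf_self ξ

theorem finrank_le_of_maps {V W : Type*} [AddCommGroup V] [Module ℂ V] [AddCommGroup W] [Module ℂ W]
    (S : Submodule ℂ V) (S' : Submodule ℂ W) [FiniteDimensional ℂ S'] (L : V →ₗ[ℂ] W)
    (h : ∀ v ∈ S, L v ∈ S') (hi : ∀ v ∈ S, L v = 0 → v = 0) : finrank ℂ S ≤ finrank ℂ S' := by
  let L' : S →ₗ[ℂ] S' := (L.domRestrict S).codRestrict S' fun v => h v v.2
  refine LinearMap.finrank_le_finrank_of_injective (f := L') ?_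
  refine (injective_iff_map_eq_zero L').2 fun v hv => ?_
  exact Subtype.ext (hi v v.2 (congrArg Subtype.val hv))

open Classical in
/-- Induction as a linear map. -/
noncomputable def indL [Fintype G] (H : Subgroup G) : (H → ℂ) →ₗ[ℂ] (G → ℂ) where
  toFun θ := indFun H θ
  map_add' a b := Characters.Brauer.indFun_add H a b
  map_smul' c a := Characters.Brauer.indFun_smul H c a

/-- **`k(B) - l(B) = k(b) - l(b)`.** -/
theorem count (hM : IsPModular p M) (P : Sylow p G) (hTI : IsTI (P : Subgroup G))
    {B : Set (IrrCharacter G)} (hB : IsPBlock M B) (hBP : IsDefectGroup p M B P)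
    {b : Set (IrrCharacter (Subgroup.normalizer ((P : Subgroup G) : Set G)))} (hb : IsInducedBlock M (Subgroup.normalizer ((P : Subgroup G) : Set G)) b B) :
    Nat.card B + blockRank p b = Nat.card b + blockRank p B := by
  classical
  have hMp := isPrime_of_isPModular hM
  have := Fintype.ofFinite G
  have := Fintype.ofFinite (Subgroup.normalizer ((P : Subgroup G) : Set G))
  have hBU := isUnion_of_isPBlock hB
  have hbU := isUnion_of_isPBlock hb.1
  suffices h : finrank ℂ ((charSpan B).map (sg p)) = finrank ℂ ((charSpan b).map (sg p)) by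
    rw [card_eq hM hBU, card_eq hM hbU, h]
    omega
  have hreg : ∀ {Y : Type u} [Group Y] {θ : Y → ℂ}, pReg p θ = 0 → ∀ g, IsPRegular p g → θ g = 0 := by
    intro Y _ θ h g hg
    rw [← pReg_of hg θ, h]; rfl
  have hres : ∀ θ : G → ℂ, resN (P : Subgroup G) (sg p θ) = sg p (resN (P : Subgroup G) θ) := by
    intro θ
    funext n
    rw [resN_apply]
    by_cases hn : IsPRegular p n
    · rw [sg_of_reg hn, sg_of_reg (reg_coe n |>.2 hn)]
    · rw [sg_of_not hn, sg_of_not (fun h => hn ((reg_coe n).1 h)), resN_apply]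
  apply le_antisymm
  · refine finrank_le_of_maps _ _ (resN (P : Subgroup G)) ?_ ?_
    · intro θ hθ
      obtain ⟨ψ, hψ, rfl⟩ := hθ
      rw [hres, mem_map_sg hM hbU]
      refine ⟨?_, pReg_sg _⟩
      have hle : charSpan B ≤ (charSpan b).comap (sg p ∘ₗ resN (P : Subgroup G)) := by
        conv_lhs => unfold charSpan
        rw [Submodule.span_le]
        rintro _ ⟨χ, hχ, rfl⟩
        exact res_mem hM P hTI hB hBP hb hχ
      exact hle hψ
    · intro θ hθ h0
      obtain ⟨h1, h2⟩ := (mem_map_sg hM hBU).1 hθ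
      funext g
      by_cases hg : IsPRegular p g
      · exact hreg h2 g hg
      · obtain ⟨c, hc⟩ := exists_conj P hTI hg
        rw [← charSpan_isClassFunction h1 g c]
        exact congrFun h0 ⟨_, hc⟩
  · refine finrank_le_of_maps _ _ (indL (Subgroup.normalizer ((P : Subgroup G) : Set G))) ?_ ?_
    · intro θ hθ
      obtain ⟨h1, h2⟩ := (mem_map_sg hM hbU).1 hθ
      rw [mem_map_sg hM hBU]
      refine ⟨?_, ?_⟩
      · refine mem_charSpan_of_classInner (Characters.Brauer.indFun_isClassFunction _ _) fun χ hχ => ?_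
        show classInner (indFun _ θ) (χ : G → ℂ) = 0
        rw [Characters.Brauer.classInner_indFun _ _ _ _ (irr_isClassFunction χ.2)]
        have h3 : classInner θ (fun h : (Subgroup.normalizer ((P : Subgroup G) : Set G)) => (χ : G → ℂ) h) =
            classInner θ (sg p (resN (P : Subgroup G) (χ : G → ℂ))) := by
          unfold classInner
          congr 1
          refine Finset.sum_congr rfl fun n _ => ?_
          by_cases hn : IsPRegular p n
          · rw [hreg h2 n hn, zero_mul, zero_mul]
          · rw [sg_of_not hn, resN_apply]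
        rw [h3, ← Characters.Core.classInner_conj_symm]
        have h4 : ∀ ψ ∈ charSpan b, classInner (sg p (resN (P : Subgroup G) (χ : G → ℂ))) ψ = 0 := by
          intro ψ hψ
          unfold charSpan at hψ
          induction hψ using Submodule.span_induction with
          | mem ψ h =>
            obtain ⟨ξ, hξ, rfl⟩ := h
            exact key hM P hTI hb hχ hξ
          | zero => exact Characters.Core.classInner_zero_right _
          | add x y _ _ hx hy => rw [Characters.Core.classInner_add_right, hx, hy, add_zero]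
          | smul c x _ hx => rw [Characters.Core.classInner_smul_right, hx, mul_zero]
        rw [h4 θ h1, map_zero]
      · funext g
        by_cases hg : IsPRegular p g
        · rw [pReg_of hg]
          show (Nat.card _ : ℂ)⁻¹ * ∑ x : G, extendByZero _ θ (x⁻¹ * g * x) = 0
          rw [Finset.sum_eq_zero, mul_zero]
          intro x _
          have hg' : IsPRegular p (x⁻¹ * g * x) := by
            have := (H657.isPRegular_conj (p := p) g x⁻¹).2 hg
            rwa [inv_inv] at this
          by_cases hx : x⁻¹ * g * x ∈ Subgroup.normalizer ((P : Subgroup G) : Set G)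
          · rw [Characters.Brauer.extendByZero_mem _ _ hx]
            exact hreg h2 _ ((reg_coe (⟨_, hx⟩ : Subgroup.normalizer ((P : Subgroup G) : Set G))).1 hg')
          · rw [Characters.Brauer.extendByZero_notMem _ _ hx]
        · rw [pReg_of_not hg]; rfl
    · intro θ hθ h0
      obtain ⟨h1, h2⟩ := (mem_map_sg hM hbU).1 hθ
      funext n
      by_cases hn : IsPRegular p n
      · exact hreg h2 n hn
      · have h3 : (Nat.card (Subgroup.normalizer ((P : Subgroup G) : Set G)) : ℂ)⁻¹ *
            ∑ x : G, extendByZero _ θ (x⁻¹ * (n : G) * x) = 0 := congrFun h0 (n : G)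
        have h4 : ∑ x : G, extendByZero _ θ (x⁻¹ * (n : G) * x) =
            (Nat.card (Subgroup.normalizer ((P : Subgroup G) : Set G)) : ℂ) * θ n := by
          have h5 : ∀ x : G, extendByZero _ θ (x⁻¹ * (n : G) * x) =
              if x ∈ Subgroup.normalizer ((P : Subgroup G) : Set G) then θ n else 0 := by
            intro x
            split_ifs with hx
            · have hmem : x⁻¹ * (n : G) * x ∈ Subgroup.normalizer ((P : Subgroup G) : Set G) :=
                mul_mem (mul_mem (inv_mem hx) n.2) hx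
              rw [Characters.Brauer.extendByZero_mem _ _ hmem]
              have h6 := charSpan_isClassFunction h1 n (⟨x, hx⟩⁻¹)
              rw [inv_inv] at h6
              exact h6
            · rw [Characters.Brauer.extendByZero_notMem]
              intro hmem
              exact hx (fusion P hTI n.2 (fun h => hn ((reg_coe n).1 h)) hmem)
          rw [Finset.sum_congr rfl fun x _ => h5 x, ← Finset.sum_filter, Finset.sum_const,
            nsmul_eq_mul, Nat.card_eq_fintype_card, Fintype.card_subtype]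
        rw [h4, ← mul_assoc, inv_mul_cancel₀ (Nat.cast_ne_zero.2 Nat.card_pos.ne'), one_mul] at h3
        exact h3

end count

end Cfsg.Agent.H608.TI
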