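import Mathlib
import Cfsg.Agent.H608.TI.Count
import Cfsg.Agent.H34.TI.Defs

/-!
# The classes of the normalizer of a TI Sylow subgroup

* `conj_of_coset`: `P` a normal `p`-subgroup: the `p`-regular elements of a coset of `P` are conjugate under `P`;
* `card_reg`: `G` has as many `p`-regular classes as `G / P` if `P` is a normal Sylow `p`-subgroup;
* `card_sing`: `N_G(P)` has as many `p`-singular classes as `G`, `P` a TI Sylow `p`-subgroup;
* `locGen`: the two together; `cnt_of_reg`.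
-/

set_option autoImplicit false

namespace Cfsg.Agent.H608.TI

open Cfsg
open scoped Pointwise

universe u

/-- The `p`-regular elements of a coset of a normal `p`-subgroup are conjugate. -/
theorem conj_of_coset {X : Type*} [Group X] [Finite X] {p : ℕ} [Fact p.Prime] (P : Subgroup X) [hPn : P.Normal]
    (hP : IsPGroup p P) {y g : X} (hy : IsPRegular p y) (hg : IsPRegular p g) (h : g * y⁻¹ ∈ P) :
    ∃ u ∈ P, g = u * y * u⁻¹ := by
  classical
  let C : Subgroup P := (Subgroup.centralizer ({y} : Set X)).subgroupOf P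
  have hC : ∀ z : P, z ∈ C ↔ (z : X) * y = y * z := fun z => by
    rw [Subgroup.mem_subgroupOf, Subgroup.mem_centralizer_singleton_iff]
  -- the map
  have hmem : ∀ (u z : P), (u : X) * z * y * (u : X)⁻¹ * y⁻¹ ∈ P := by
    intro u z
    have h1 : (u : X) * z * y * (u : X)⁻¹ * y⁻¹ = (u * z) * (y * (u : X)⁻¹ * y⁻¹) := by group
    rw [h1]
    exact mul_mem (mul_mem u.2 z.2) (hPn.conj_mem _ (inv_mem u.2) y)
  have hpart : ∀ (u : P) (z : C), IsPPart p ((u : X) * z * y * (u : X)⁻¹) ((u : X) * (z : P) * (u : X)⁻¹) := by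
    intro u z
    obtain ⟨k, hk⟩ := IsPGroup.iff_orderOf.1 hP z
    have h1 : IsPPart p (((z : P) : X) * y) ((z : P) : X) :=
      Blocks.PPart.isPPart_mul ((hC z).1 z.2) ⟨k, by rw [Subgroup.orderOf_coe]; exact hk⟩ hy
    have h2 := Blocks.PPart.isPPart_conj h1 (u : X)
    have h3 : (u : X) * (((z : P) : X) * y) * (u : X)⁻¹ = (u : X) * z * y * (u : X)⁻¹ := by group
    rwa [h3] at h2
  let F : (P ⧸ C) × C → P := fun s => ⟨((s.1.out : P) : X) * (s.2 : P) * y * ((s.1.out : P) : X)⁻¹ * y⁻¹, hmem _ _⟩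
  have hF : Function.Injective F := by
    rintro ⟨q, z⟩ ⟨q', z'⟩ he
    have h1 : ((q.out : P) : X) * (z : P) * y * ((q.out : P) : X)⁻¹ * y⁻¹ =
        ((q'.out : P) : X) * (z' : P) * y * ((q'.out : P) : X)⁻¹ * y⁻¹ := congrArg Subtype.val he
    have h2 := mul_right_cancel h1
    have h3 := hpart q.out z
    rw [h2] at h3
    have h4 := Blocks.PPart.isPPart_unique h3 (hpart q'.out z')
    have h5 : ((q.out : P) : X) * y * ((q.out : P) : X)⁻¹ = ((q'.out : P) : X) * y * ((q'.out : P) : X)⁻¹ := by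
      have h6 : ((q.out : P) : X) * (z : P) * y * ((q.out : P) : X)⁻¹ =
          (((q.out : P) : X) * (z : P) * ((q.out : P) : X)⁻¹) * (((q.out : P) : X) * y * ((q.out : P) : X)⁻¹) := by group
      have h7 : ((q'.out : P) : X) * (z' : P) * y * ((q'.out : P) : X)⁻¹ =
          (((q'.out : P) : X) * (z' : P) * ((q'.out : P) : X)⁻¹) * (((q'.out : P) : X) * y * ((q'.out : P) : X)⁻¹) := by
        group
      rw [h6, h7, h4] at h2
      exact mul_left_cancel h2
    have h8 : q.out⁻¹ * q'.out ∈ C := by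
      rw [hC]
      push_cast
      calc ((q.out : P) : X)⁻¹ * ((q'.out : P) : X) * y
          = ((q.out : P) : X)⁻¹ * (((q'.out : P) : X) * y * ((q'.out : P) : X)⁻¹) * ((q'.out : P) : X) := by group
        _ = ((q.out : P) : X)⁻¹ * (((q.out : P) : X) * y * ((q.out : P) : X)⁻¹) * ((q'.out : P) : X) := by rw [h5]
        _ = y * (((q.out : P) : X)⁻¹ * ((q'.out : P) : X)) := by group
    have h9 : q = q' := by
      rw [← Quotient.out_eq' q, ← Quotient.out_eq' q']
      exact QuotientGroup.eq.2 h8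
    subst h9
    have h10 : ((z : P) : X) = ((z' : P) : X) := mul_left_cancel (mul_right_cancel h4)
    rw [Prod.mk.injEq]
    exact ⟨rfl, Subtype.ext (Subtype.ext h10)⟩
  have hcard : Nat.card ((P ⧸ C) × C) = Nat.card P := by
    rw [Nat.card_prod, ← Subgroup.card_eq_card_quotient_mul_card_subgroup]
  have hbij : Function.Bijective F := (Nat.bijective_iff_injective_and_card F).2 ⟨hF, hcard⟩
  obtain ⟨⟨q, z⟩, hqz⟩ := hbij.2 ⟨g * y⁻¹, h⟩
  have h1 : ((q.out : P) : X) * (z : P) * y * ((q.out : P) : X)⁻¹ * y⁻¹ = g * y⁻¹ := congrArg Subtype.val hqz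
  have h2 := mul_right_cancel h1
  have h3 := hpart q.out z
  rw [h2] at h3
  have h4 := Blocks.PPart.isPPart_unique h3 (Blocks.PPart.isPPart_of_not_dvd hg)
  have h5 : ((z : P) : X) = 1 := by
    have : ((z : P) : X) = ((q.out : P) : X)⁻¹ * (((q.out : P) : X) * (z : P) * ((q.out : P) : X)⁻¹) * ((q.out : P) : X) := by
      group
    rw [this, h4]; group
  refine ⟨q.out, SetLike.coe_mem _, ?_⟩
  rw [← h2, h5, mul_one]

section

variable {X : Type u} [Group X] [Finite X] {p : ℕ} [Fact p.Prime]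

omit [Finite X] [Fact p.Prime] in
theorem reg_out (x : X) : ¬ p ∣ orderOf (ConjClasses.mk x).out ↔ IsPRegular p x := by
  unfold IsPRegular
  have h : IsConj (ConjClasses.mk x).out x := ConjClasses.mk_eq_mk_iff_isConj.1 (Quotient.out_eq _)
  obtain ⟨c, hc⟩ := isConj_iff.1 h
  have h1 : orderOf (c * (ConjClasses.mk x).out * c⁻¹) = orderOf (ConjClasses.mk x).out :=
    orderOf_injective (MulAut.conj c).toMonoidHom (MulAut.conj c).injective _
  rw [hc] at h1
  rw [h1]

/-- **The `p`-regular classes and the quotient by a normal Sylow `p`-subgroup.** -/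
theorem card_reg (P : Subgroup X) [hPn : P.Normal] (hP : IsPGroup p P) (hmax : ∀ z : X, (∃ k : ℕ, orderOf z = p ^ k) → z ∈ P) :
    Nat.card (H34.TI.Reg p X) = Nat.card (ConjClasses (X ⧸ P)) := by
  let f : H34.TI.Reg p X → ConjClasses (X ⧸ P) := fun c => ConjClasses.map (QuotientGroup.mk' P) c.1
  refine Nat.card_congr (Equiv.ofBijective f ⟨?_, ?_⟩)
  · rintro ⟨c, hc⟩ ⟨d, hd⟩ he
    obtain ⟨x, rfl⟩ := ConjClasses.exists_rep c
    obtain ⟨y, rfl⟩ := ConjClasses.exists_rep d
    have hc' := (reg_out x).1 hc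
    have hd' := (reg_out y).1 hd
    have h1 : IsConj (QuotientGroup.mk' P x) (QuotientGroup.mk' P y) := ConjClasses.mk_eq_mk_iff_isConj.1 he
    obtain ⟨q, hq⟩ := isConj_iff.1 h1
    obtain ⟨w, rfl⟩ := QuotientGroup.mk'_surjective P q
    have h2 : (w * x * w⁻¹) * y⁻¹ ∈ P := by
      rw [← QuotientGroup.eq_one_iff]
      have h3 : QuotientGroup.mk' P ((w * x * w⁻¹) * y⁻¹) = 1 := by
        rw [map_mul, map_mul, map_mul, map_inv, map_inv, hq, mul_inv_cancel]
      exact h3
    obtain ⟨u, hu, hue⟩ := conj_of_coset P hP hd' ((H657.isPRegular_conj x w).2 hc') h2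
    refine Subtype.ext (ConjClasses.mk_eq_mk_iff_isConj.2 (isConj_iff.2 ⟨u⁻¹ * w, ?_⟩))
    calc u⁻¹ * w * x * (u⁻¹ * w)⁻¹ = u⁻¹ * (w * x * w⁻¹) * u := by group
      _ = y := by rw [hue]; group
  · intro d
    obtain ⟨q, rfl⟩ := ConjClasses.exists_rep d
    obtain ⟨x, rfl⟩ := QuotientGroup.mk'_surjective P q
    obtain ⟨z, y, hzy, hcomm, hk, hy⟩ := Blocks.PPart.exists_isPPart p x
    refine ⟨⟨ConjClasses.mk y, (reg_out y).2 hy⟩, ?_⟩
    show ConjClasses.map (QuotientGroup.mk' P) (ConjClasses.mk y) = _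
    have h1 : QuotientGroup.mk' P x = QuotientGroup.mk' P y := by
      have h2 : QuotientGroup.mk' P z = 1 := (QuotientGroup.eq_one_iff z).2 (hmax z hk)
      rw [← hzy, map_mul, h2, one_mul]
    rw [h1]
    rfl

end

variable {G : Type u} [Group G] [Finite G] {p : ℕ} [Fact p.Prime]

/-- **The `p`-singular classes.** -/
theorem card_sing (P : Sylow p G) (hTI : IsTI (P : Subgroup G)) :
    Nat.card (H34.TI.Sing p (Subgroup.normalizer ((P : Subgroup G) : Set G))) = Nat.card (H34.TI.Sing p G) := by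
  have hout : ∀ {Y : Type u} [Group Y] (x : Y), p ∣ orderOf (ConjClasses.mk x).out ↔ ¬ IsPRegular p x := fun x => by
    rw [← reg_out x, not_not]
  let f : H34.TI.Sing p (Subgroup.normalizer ((P : Subgroup G) : Set G)) → H34.TI.Sing p G := fun c =>
    ⟨ConjClasses.map (Subgroup.normalizer ((P : Subgroup G) : Set G)).subtype c.1, by
      obtain ⟨c, hc⟩ := c
      obtain ⟨x, rfl⟩ := ConjClasses.exists_rep c
      have h1 := (hout x).1 hc
      rw [← reg_coe] at h1
      exact (hout (x : G)).2 h1⟩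
  refine Nat.card_congr (Equiv.ofBijective f ⟨?_, ?_⟩)
  · rintro ⟨c, hc⟩ ⟨d, hd⟩ he
    obtain ⟨x, rfl⟩ := ConjClasses.exists_rep c
    obtain ⟨y, rfl⟩ := ConjClasses.exists_rep d
    have hc' := (hout x).1 hc
    rw [← reg_coe] at hc'
    have h0 : ConjClasses.mk (x : G) = ConjClasses.mk (y : G) := congrArg Subtype.val he
    obtain ⟨g, hg⟩ := isConj_iff.1 (ConjClasses.mk_eq_mk_iff_isConj.1 h0)
    have h1 : g⁻¹ ∈ Subgroup.normalizer ((P : Subgroup G) : Set G) := by
      refine fusion P hTI x.2 hc' ?_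
      rw [inv_inv, hg]
      exact y.2
    refine Subtype.ext (ConjClasses.mk_eq_mk_iff_isConj.2 (isConj_iff.2 ⟨⟨g, (inv_mem_iff).1 h1⟩, Subtype.ext ?_⟩))
    exact hg
  · rintro ⟨c, hc⟩
    obtain ⟨x, rfl⟩ := ConjClasses.exists_rep c
    have hc' := (hout x).1 hc
    obtain ⟨w, hw⟩ := exists_conj P hTI hc'
    refine ⟨⟨ConjClasses.mk ⟨w * x * w⁻¹, hw⟩, (hout _).2 ?_⟩, ?_⟩
    · rw [← reg_coe]
      exact fun h => hc' ((H657.isPRegular_conj x w).1 h)
    · refine Subtype.ext ?_
      show ConjClasses.mk (w * x * w⁻¹) = ConjClasses.mk x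
      exact ConjClasses.mk_eq_mk_iff_isConj.2 (isConj_iff.2 ⟨w⁻¹, by group⟩)

omit [Fact p.Prime] in
theorem card_classes : Nat.card (ConjClasses G) = Nat.card (H34.TI.Reg p G) + Nat.card (H34.TI.Sing p G) := by
  classical
  rw [← Nat.card_congr (Equiv.sumCompl (fun c : ConjClasses G => p ∣ orderOf c.out)), Nat.card_sum, add_comm]

/-- **LOC-GEN.** -/
theorem locGen : H34.TI.LocGen.{u} := by
  intro p _ G _ _ P hTI
  rw [card_classes (p := p), card_sing P hTI]
  congr 1
  refine card_reg _ P.2.comap_subtype fun z hz => ?_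
  rw [Subgroup.mem_subgroupOf]
  refine mem_of_normalizer P ?_ z.2
  obtain ⟨k, hk⟩ := hz
  exact ⟨k, by rw [Subgroup.orderOf_coe]; exact hk⟩

/-- `k(G) = k(N_G(P)) + z` as soon as the number of the `p`-regular classes of `G` is `k(N_G(P)/P) + z`. -/
theorem cnt_of_reg (h : ∀ P : Sylow p G, H34.TI.IsTI (P : Subgroup G) → Nat.card (H34.TI.Reg p G) =
      Nat.card (ConjClasses ((Subgroup.normalizer ((P : Subgroup G) : Set G)) ⧸
        ((P : Subgroup G).subgroupOf (Subgroup.normalizer ((P : Subgroup G) : Set G))))) +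
      Nat.card {χ : IrrCharacter G // H34.TI.IsDz p χ}) : H34.TI.Cnt p G := by
  intro P hTI
  rw [locGen p G P hTI, card_classes (p := p) (G := G), h P hTI]
  omega

end Cfsg.Agent.H608.TI
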