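import Cfsg.Agent.H608.TI.BlkTool

/-!
# The block part of the rows with `G / K E` abelian (row `PSL₃(4)` of S4819 and S4820)

`P` a TI Sylow `p`-subgroup of `G`, `K` a normal `p'`-subgroup centralised by `P`, `E ≥ P` normal, centralising `K`,
`G / K E` abelian, `K` contains the `p'`-elements of `C(P) ∩ K E`. The linear characters of `G / K E` permute the blocks
of `N(P)` over `θ ∈ Irr K` transitively, hence also the blocks of `G` with defect group `P` over `θ`.

* `card_eq_of_abelian`: `|B| = |b|` if the number of the characters of `G_θ` over `θ` not of defect zero is the number of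
  the characters of `N_{G_θ}(P)` over `θ` for all `θ`.
-/

set_option autoImplicit false
set_option linter.style.haveILetI false
set_option linter.unusedSectionVars false

open Cfsg
open scoped Pointwise ComplexConjugate commutatorElement

namespace Cfsg.Agent.H608.TI

open Cfsg.Agent.H681.TI Cfsg.Agent.H672 Cfsg.Agent.H672.RM Cfsg.Agent.H675.Nd Cfsg.Agent.Characters.Core
open Cfsg.Agent.H666.Clif (tl tl_apply tl_inv_tl tl_tl_inv tl_injective image_tl_blockOf isPBlock_tl sameBlock_tl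
  isIntegral_lin centralChar_tl)

universe u v

theorem over_tl {X : Type u} [Group X] [Finite X] {H : Type v} [Group H] [Finite H] (f : H →* X) (l : X →* ℂˣ)
    {χ : IrrCharacter X} {φ φ' : H → ℂ} (h : Over f (χ : X → ℂ) φ) (hφ' : ∀ x, φ' x = (l (f x) : ℂ) * φ x) :
    Over f (tl l χ : X → ℂ) φ' := by
  classical
  letI := Fintype.ofFinite H
  rw [over_iff] at h ⊢
  have h1 : classInner ((tl l χ : X → ℂ) ∘ f) φ' = classInner ((χ : X → ℂ) ∘ f) φ := by
    unfold classInner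
    congr 1
    refine Finset.sum_congr rfl fun x _ => ?_
    rw [hφ' x, map_mul]
    have h2 := norm_lin l (f x)
    simp only [Function.comp, tl_apply]
    linear_combination ((χ : X → ℂ) (f x) * conj (φ x)) * h2
  rw [h1]; exact h

section main
variable {G : Type u} [Group G] [Finite G] {p : ℕ} [hp : Fact p.Prime] {M : Ideal AlgInt}

theorem full_N (hM : IsPModular p M) (P : Sylow p G)
    (ξ : IrrCharacter (Subgroup.normalizer ((P : Subgroup G) : Set G))) :
    blockDefect p (blockOf M (ξ : Subgroup.normalizer ((P : Subgroup G) : Set G) → ℂ)) =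
      (Nat.card (Subgroup.normalizer ((P : Subgroup G) : Set G))).factorization p := by
  have hb : IsPBlock M (blockOf M (ξ : Subgroup.normalizer ((P : Subgroup G) : Set G) → ℂ)) := ⟨ξ, rfl⟩
  rw [← H592.Defect.factorization_card_defect p hM hb (defect_N hM P hb)]
  let P' : Sylow p (Subgroup.normalizer ((P : Subgroup G) : Set G)) := P.subtype Subgroup.le_normalizer
  have h1 : Nat.card ((P : Subgroup G).subgroupOf (Subgroup.normalizer ((P : Subgroup G) : Set G))) =
    p ^ (Nat.card (Subgroup.normalizer ((P : Subgroup G) : Set G))).factorization p := P'.card_eq_multiplicity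
  rw [h1, hp.out.factorization_pow, Finsupp.single_eq_same]

/-- **The linear characters of `G / K E` permute the blocks of `N(P)` over `θ` transitively.** -/
theorem exists_lin_block (hM : IsPModular p M) (P : Sylow p G) (K : Subgroup G) [hKn : K.Normal]
    (hK : ¬ p ∣ Nat.card K) (hKC : K ≤ Subgroup.centralizer ((P : Subgroup G) : Set G))
    (E : Subgroup G) [hEn : E.Normal] (hab : ∀ x y : G, ⁅x, y⁆ ∈ K ⊔ E)
    (hC : ∀ x ∈ K ⊔ E, x ∈ Subgroup.centralizer ((P : Subgroup G) : Set G) → ¬ p ∣ orderOf x → x ∈ K)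
    {θ : K → ℂ} (hθ : IsIrrCharacter K θ)
    {ξ ξ' : IrrCharacter (Subgroup.normalizer ((P : Subgroup G) : Set G))}
    (h : Over (Subgroup.inclusion (le_nrm hKC)) (ξ : Subgroup.normalizer ((P : Subgroup G) : Set G) → ℂ) θ)
    (h' : Over (Subgroup.inclusion (le_nrm hKC)) (ξ' : Subgroup.normalizer ((P : Subgroup G) : Set G) → ℂ) θ) :
    ∃ l : G →* ℂˣ, (∀ y ∈ K ⊔ E, l y = 1) ∧
      SameBlock M (tl (l.comp (Subgroup.normalizer ((P : Subgroup G) : Set G)).subtype) ξ :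
        Subgroup.normalizer ((P : Subgroup G) : Set G) → ℂ)
        (ξ' : Subgroup.normalizer ((P : Subgroup G) : Set G) → ℂ) := by
  classical
  obtain ⟨C, hCc, hCp, hCall⟩ := exists_cprime P
  let N : Subgroup G := Subgroup.normalizer ((P : Subgroup G) : Set G)
  have hKC' : K ≤ C := fun k hk => hCall k (hKC hk) fun hd => hK (hd.trans (by
    have := orderOf_dvd_natCard (⟨k, hk⟩ : K)
    rwa [Subgroup.orderOf_mk] at this))
  have hCN : C ≤ N := hCc.trans (Subgroup.centralizer_le_normalizer _)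
  have hCo : ∀ x ∈ C, ¬ p ∣ orderOf x := fun x hx hd => hCp (hd.trans (by
    have := orderOf_dvd_natCard (⟨x, hx⟩ : C)
    rwa [Subgroup.orderOf_mk] at this))
  have hCL : ∀ x ∈ C, x ∈ K ⊔ E → x ∈ K := fun x hx hL => hC x hL (hCc hx) (hCo x hx)
  have hinc : Subgroup.inclusion (le_nrm hKC) = (Subgroup.inclusion hCN).comp (Subgroup.inclusion hKC') := rfl
  rw [hinc] at h h'
  obtain ⟨φ, hφ, h1, h2⟩ := (over_comp_iff (Subgroup.inclusion hCN) (Subgroup.inclusion hKC')
    (isIrr_isCharacter ξ.2) hθ).1 h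
  obtain ⟨φ', hφ', h1', h2'⟩ := (over_comp_iff (Subgroup.inclusion hCN) (Subgroup.inclusion hKC')
    (isIrr_isCharacter ξ'.2) hθ).1 h'
  obtain ⟨l, hl, hlφ⟩ := exists_lin (K ⊔ E) hab hKC' le_sup_left hCL hθ hφ hφ' h2 h2'
  refine ⟨l, hl, ?_⟩
  have h3 : Over (Subgroup.inclusion hCN) (tl (l.comp N.subtype) ξ : N → ℂ) φ' :=
    over_tl (Subgroup.inclusion hCN) (l.comp N.subtype) h1 hlφ
  haveI hCn : (C.subgroupOf N).Normal := by
    constructor
    intro c hc n
    rw [Subgroup.mem_subgroupOf] at hc ⊢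
    apply hCall
    · rw [Subgroup.mem_centralizer_iff]
      intro y hy
      have h4 : (n : G)⁻¹ * y * (n : G) ∈ (P : Subgroup G) := by
        have h5 := (Subgroup.mem_normalizer_iff.1 (N.inv_mem n.2) y).1 hy
        rwa [inv_inv] at h5
      have h5 := Subgroup.mem_centralizer_iff.1 (hCc hc) _ h4
      change y * ((n : G) * c * (n : G)⁻¹) = (n : G) * c * (n : G)⁻¹ * y
      calc y * ((n : G) * c * (n : G)⁻¹) = (n : G) * ((n : G)⁻¹ * y * n * c) * (n : G)⁻¹ := by group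
        _ = (n : G) * (c * ((n : G)⁻¹ * y * n)) * (n : G)⁻¹ := by rw [h5]
        _ = _ := by group
    · have h6 : ((n * c * n⁻¹ : N) : G) = MulAut.conj (n : G) (c : G) := rfl
      rw [h6, MulEquiv.orderOf_eq]
      exact hCo _ hc
  rw [over_iff_sub hCN] at h3 h1'
  refine sameBlock_of_over hM (P.subtype Subgroup.le_normalizer) (C.subgroupOf N) ?_ (isIrr_sub hCN hφ') h3 h1'
    (full_N hM P _) (full_N hM P _)
  intro x hx hxo
  rw [Subgroup.mem_subgroupOf]
  apply hCall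
  · rw [Subgroup.mem_centralizer_iff] at hx ⊢
    intro y hy
    exact congrArg Subtype.val (hx ⟨y, Subgroup.le_normalizer hy⟩ (Subgroup.mem_subgroupOf.2 hy))
  · rw [Subgroup.orderOf_coe]; exact hxo

/-- The blocks with defect group `P` over `θ`. -/
abbrev Tb (p : ℕ) (M : Ideal AlgInt) (P : Subgroup G) {K : Subgroup G} (θ : K → ℂ) : Type u :=
  {B : Bl p M P // ∃ χ ∈ B.1, Over K.subtype (χ : G → ℂ) θ}

theorem Tb.over (hM : IsPModular p M) {P : Subgroup G} {K : Subgroup G} [hKn : K.Normal] (hK : ¬ p ∣ Nat.card K)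
    {θ : K → ℂ} (hθ : IsIrrCharacter K θ) (B : Tb p M P θ) {χ : IrrCharacter G} (hχ : χ ∈ B.1.1) :
    Over K.subtype (χ : G → ℂ) θ := by
  have hMp := hM.2.1.isPrime
  obtain ⟨χ', hχ', h⟩ := B.2
  exact over_of_sameBlock hM K hK hθ (Blocks.Basic.isPBlock_sameBlock B.1.2.1 hχ' hχ) h

/-- `G = N(P) E` -/
theorem frattini (P : Sylow p G) (E : Subgroup G) [hEn : E.Normal] (hPE : (P : Subgroup G) ≤ E) (g : G) :
    ∃ n ∈ Subgroup.normalizer ((P : Subgroup G) : Set G), ∃ e ∈ E, g = n * e := by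
  have h1 : g ∈ Subgroup.normalizer ((P : Subgroup G) : Set G) ⊔ E := by
    have h2 : Subgroup.normalizer ((P : Subgroup G) : Set G) ⊔ E = ⊤ := Sylow.normalizer_sup_eq_top' P hPE
    rw [h2]; exact Subgroup.mem_top g
  rw [← SetLike.mem_coe, Subgroup.mul_normal] at h1
  obtain ⟨n, hn, e, he, rfl⟩ := h1
  exact ⟨n, hn, e, he, rfl⟩

theorem over_br (hM : IsPModular p M) (P : Sylow p G) (K : Subgroup G) [hKn : K.Normal]
    (hK : ¬ p ∣ Nat.card K) (hKC : K ≤ Subgroup.centralizer ((P : Subgroup G) : Set G))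
    (E : Subgroup G) [hEn : E.Normal] (hPE : (P : Subgroup G) ≤ E) (hcomm : ∀ k ∈ K, ∀ e ∈ E, k * e = e * k)
    {θ : K → ℂ} (hθ : IsIrrCharacter K θ) (B : Tb p M (P : Subgroup G) θ)
    {ξ : IrrCharacter (Subgroup.normalizer ((P : Subgroup G) : Set G))} (hξ : ξ ∈ br hM P B.1) :
    Over (Subgroup.inclusion (le_nrm hKC)) (ξ : Subgroup.normalizer ((P : Subgroup G) : Set G) → ℂ) θ := by
  classical
  letI := Fintype.ofFinite G
  letI := Fintype.ofFinite (Subgroup.normalizer ((P : Subgroup G) : Set G))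
  letI := Fintype.ofFinite K
  have hKtop : ∀ U : Subgroup G, U ≤ Subgroup.normalizer (K : Set G) := fun U x _ => by
    rw [Subgroup.normalizer_eq_top]; exact Subgroup.mem_top x
  obtain ⟨χ, hχ, h0⟩ := S0934.result p M hM _ _ _ (br_spec hM P B.1) ξ hξ
  obtain ⟨θ', hθ', hξθ'⟩ := exists_under (f := Subgroup.inclusion (le_nrm hKC)) ξ.2
  have h1 : Over K.subtype (χ : G → ℂ) θ' := by
    have h1 : K.subtype = (Subgroup.normalizer ((P : Subgroup G) : Set G)).subtype.comp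
      (Subgroup.inclusion (le_nrm hKC)) := rfl
    rw [h1, over_comp_iff _ _ (isIrr_isCharacter χ.2) hθ']
    refine ⟨ξ, ξ.2, ?_, hξθ'⟩
    rw [over_subtype_iff]
    exact h0
  have h2 : Over K.subtype (χ : G → ℂ) θ := B.over hM hK hθ hχ
  rw [over_subtype_iff] at h1 h2
  obtain ⟨g, hg⟩ := Characters.Clifford.exists_conj_of_constituents K χ.2 hθ' hθ h1 h2
  have hg' : θ = tw K g θ' := by
    rw [hg]
    funext k
    symm
    exact tw_apply' (hKtop ⊤ (Subgroup.mem_top g)) θ' k _ rfl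
  obtain ⟨n, hn, e, he, rfl⟩ := frattini P E hPE g
  have hte : tw K e (tw K n θ') = tw K n θ' := by
    funext k
    refine tw_apply' (hKtop ⊤ (Subgroup.mem_top e)) _ k k ?_
    rw [← hcomm k k.2 e he, mul_inv_cancel_right]
  rw [tw_mul (hKtop ⊤ (Subgroup.mem_top n)) (hKtop ⊤ (Subgroup.mem_top e)), hte] at hg'
  rw [hg', over_tw (le_nrm hKC) (hKtop _) (isIrr_isClassFunction ξ.2) hn]
  exact hξθ'

theorem mem_Tb (hM : IsPModular p M) (P : Sylow p G) {K : Subgroup G} 
    (hKC : K ≤ Subgroup.centralizer ((P : Subgroup G) : Set G))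
    {θ : K → ℂ} (hθ : IsIrrCharacter K θ) (B : Bl p M (P : Subgroup G))
    {ξ : IrrCharacter (Subgroup.normalizer ((P : Subgroup G) : Set G))} (hξ : ξ ∈ br hM P B)
    (h : Over (Subgroup.inclusion (le_nrm hKC)) (ξ : Subgroup.normalizer ((P : Subgroup G) : Set G) → ℂ) θ) :
    ∃ χ ∈ B.1, Over K.subtype (χ : G → ℂ) θ := by
  classical
  letI := Fintype.ofFinite G
  letI := Fintype.ofFinite (Subgroup.normalizer ((P : Subgroup G) : Set G))
  obtain ⟨χ, hχ, h0⟩ := S0934.result p M hM _ _ _ (br_spec hM P B) ξ hξ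
  refine ⟨χ, hχ, ?_⟩
  have h1 : K.subtype = (Subgroup.normalizer ((P : Subgroup G) : Set G)).subtype.comp
    (Subgroup.inclusion (le_nrm hKC)) := rfl
  rw [h1, over_comp_iff _ _ (isIrr_isCharacter χ.2) hθ]
  refine ⟨ξ, ξ.2, ?_, h⟩
  rw [over_subtype_iff]
  exact h0

/-- The characters over `θ` not of defect zero. -/
theorem cND_eq_sigma (hM : IsPModular p M) (P : Sylow p G) (hP1 : (P : Subgroup G) ≠ ⊥)
    (hTI : IsTI (P : Subgroup G)) {K : Subgroup G} [hKn : K.Normal] (hK : ¬ p ∣ Nat.card K)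
    {θ : K → ℂ} (hθ : IsIrrCharacter K θ) :
    cND p K.subtype θ = Nat.card (Σ B : Tb p M (P : Subgroup G) θ, B.1.1) := by
  symm
  refine Nat.card_congr (Equiv.ofBijective
    (fun s : (Σ B : Tb p M (P : Subgroup G) θ, B.1.1) =>
      (⟨s.2.1, s.1.over hM hK hθ s.2.2, not_dz hM P hP1 s.1.1.2.1 s.1.1.2.2 s.2.2⟩ :
        {χ : IrrCharacter G // Over K.subtype (χ : G → ℂ) θ ∧ ¬ DZ p (χ : G → ℂ)})) ⟨?_, ?_⟩)
  · rintro ⟨B, χ⟩ ⟨B', χ'⟩ h
    have h1 : (χ : IrrCharacter G) = χ' := congrArg Subtype.val h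
    have hMp := hM.2.1.isPrime
    have h2 : B = B' := Subtype.ext (Subtype.ext
      (Blocks.Basic.isPBlock_eq_of_mem B.1.2.1 B'.1.2.1 χ.2 (h1 ▸ χ'.2)))
    subst h2
    congr 1
    exact Subtype.ext h1
  · rintro ⟨χ, hχ, hd⟩
    obtain ⟨⟨B, χ'⟩, h⟩ := (equivG hM P hTI hP1).surjective ⟨χ, hd⟩
    have h1 : (χ' : IrrCharacter G) = χ := congrArg Subtype.val h
    subst h1
    exact ⟨⟨⟨B, χ', χ'.2, hχ⟩, χ'⟩, rfl⟩

/-- The characters of `N(P)` over `θ`. -/
theorem cAll_eq_sigma (hM : IsPModular p M) (P : Sylow p G)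
    (K : Subgroup G) [hKn : K.Normal] (hK : ¬ p ∣ Nat.card K)
    (hKC : K ≤ Subgroup.centralizer ((P : Subgroup G) : Set G))
    (E : Subgroup G) [hEn : E.Normal] (hPE : (P : Subgroup G) ≤ E) (hcomm : ∀ k ∈ K, ∀ e ∈ E, k * e = e * k)
    {θ : K → ℂ} (hθ : IsIrrCharacter K θ) :
    cAll (Subgroup.inclusion (le_nrm hKC)) θ = Nat.card (Σ B : Tb p M (P : Subgroup G) θ, br hM P B.1) := by
  symm
  refine Nat.card_congr (Equiv.ofBijective
    (fun s : (Σ B : Tb p M (P : Subgroup G) θ, br hM P B.1) =>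
      (⟨s.2.1, over_br hM P K hK hKC E hPE hcomm hθ s.1 s.2.2⟩ :
        {ψ : IrrCharacter (Subgroup.normalizer ((P : Subgroup G) : Set G)) //
          Over (Subgroup.inclusion (le_nrm hKC)) (ψ : Subgroup.normalizer ((P : Subgroup G) : Set G) → ℂ) θ})) ⟨?_, ?_⟩)
  · rintro ⟨B, ξ⟩ ⟨B', ξ'⟩ h
    have h1 : (ξ : IrrCharacter (Subgroup.normalizer ((P : Subgroup G) : Set G))) = ξ' := congrArg Subtype.val h
    have h2 : (⟨B.1, ξ⟩ : (Σ B : Bl p M (P : Subgroup G), br hM P B)) = ⟨B'.1, ξ'⟩ := (equivN hM P).injective h1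
    have h3 : B = B' := Subtype.ext (congrArg Sigma.fst h2)
    subst h3
    congr 1
    exact Subtype.ext h1
  · rintro ⟨ξ, hξ⟩
    obtain ⟨⟨B, ξ'⟩, h⟩ := (equivN hM P).surjective ξ
    have h1 : (ξ' : IrrCharacter (Subgroup.normalizer ((P : Subgroup G) : Set G))) = ξ := h
    subst h1
    exact ⟨⟨⟨B, mem_Tb hM P hKC hθ B ξ'.2 hξ⟩, ξ'⟩, rfl⟩

/-- **The block part.** -/
theorem card_eq_of_abelian (hM : IsPModular p M) (P : Sylow p G) (hP1 : (P : Subgroup G) ≠ ⊥)
    (hTI : ∀ g : G, g ∉ Subgroup.normalizer ((P : Subgroup G) : Set G) →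
      (P : Subgroup G) ⊓ (MulAut.conj g • (P : Subgroup G)) = ⊥)
    (K : Subgroup G) [hKn : K.Normal] (hK : ¬ p ∣ Nat.card K)
    (hKC : K ≤ Subgroup.centralizer ((P : Subgroup G) : Set G))
    (E : Subgroup G) [hEn : E.Normal] (hPE : (P : Subgroup G) ≤ E) (hcomm : ∀ k ∈ K, ∀ e ∈ E, k * e = e * k)
    (hab : ∀ x y : G, ⁅x, y⁆ ∈ K ⊔ E)
    (hC : ∀ x ∈ K ⊔ E, x ∈ Subgroup.centralizer ((P : Subgroup G) : Set G) → ¬ p ∣ orderOf x → x ∈ K)
    (hcond : ∀ (θ : K → ℂ) (hθ : IsIrrCharacter K θ),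
      cND p (Subgroup.inclusion (le_stab (isIrr_isClassFunction hθ))) θ =
        cAll (Subgroup.inclusion (le_inf (le_nrm hKC) (le_stab (isIrr_isClassFunction hθ)))) θ)
    (B : Set (IrrCharacter G)) (hBP : IsDefectGroup p M B P)
    (b : Set (IrrCharacter (Subgroup.normalizer ((P : Subgroup G) : Set G))))
    (hb : IsInducedBlock M (Subgroup.normalizer ((P : Subgroup G) : Set G)) b B) :
    Nat.card B = Nat.card b := by
  classical
  have hMp := hM.2.1.isPrime
  haveI := finite_irr (G := G)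
  haveI := finite_irr (G := Subgroup.normalizer ((P : Subgroup G) : Set G))
  obtain ⟨ξ, hξ⟩ := Blocks.Basic.isPBlock_nonempty hb.1
  obtain ⟨θ, hθ, hξθ⟩ := exists_under (f := Subgroup.inclusion (le_nrm hKC)) ξ.2
  have hBb : br hM P ⟨B, hb.2.1, hBP⟩ = b := br_eq hM P ⟨B, hb.2.1, hBP⟩ hb
  -- the counts over `θ`
  have hst := le_stab (isIrr_isClassFunction hθ)
  have htop : ∀ U : Subgroup G, U ≤ Subgroup.normalizer (K : Set G) := fun U x _ => by
    rw [Subgroup.normalizer_eq_top]; exact Subgroup.mem_top x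
  have i1 : Inert K (stab θ) ⊤ θ := ⟨le_top, htop _, hθ, by rw [top_inf_eq]⟩
  have i2 : Inert K (Subgroup.normalizer ((P : Subgroup G) : Set G) ⊓ stab θ)
    (Subgroup.normalizer ((P : Subgroup G) : Set G)) θ := ⟨le_nrm hKC, htop _, hθ, rfl⟩
  have e3 : cND p K.subtype θ = cND p (Subgroup.inclusion i1.le) θ :=
    cND_congr p Subgroup.topEquiv.symm (MulEquiv.refl K) _ _ (fun _ => rfl) _ _ (fun _ => rfl)
  have e4 : cND p K.subtype θ = cAll (Subgroup.inclusion (le_nrm hKC)) θ := by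
    rw [e3, cND_clifford i1, cAll_clifford i2]
    exact hcond θ hθ
  rw [cND_eq_sigma hM P hP1 hTI hK hθ, cAll_eq_sigma hM P K hK hKC E hPE hcomm hθ] at e4
  -- all blocks over `θ` are conjugate
  have hconj : ∀ B' : Tb p M (P : Subgroup G) θ, ∃ l : G →* ℂˣ, B'.1.1 = tl l '' B ∧
      br hM P B'.1 = tl (l.comp (Subgroup.normalizer ((P : Subgroup G) : Set G)).subtype) '' b := by
    intro B'
    obtain ⟨ξ', hξ'⟩ := Blocks.Basic.isPBlock_nonempty (br_spec hM P B'.1).1
    have hξ'θ := over_br hM P K hK hKC E hPE hcomm hθ B' hξ'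
    obtain ⟨l, -, hl⟩ := exists_lin_block hM P K hK hKC E hab hC hθ hξθ hξ'θ
    have h1 : br hM P B'.1 = tl (l.comp (Subgroup.normalizer ((P : Subgroup G) : Set G)).subtype) '' b := by
      refine (Blocks.Basic.isPBlock_eq_of_mem (isPBlock_tl hMp _ hb.1) (br_spec hM P B'.1).1 (χ := ξ') ?_ hξ').symm
      exact Blocks.Basic.isPBlock_mem_of_sameBlock (isPBlock_tl hMp _ hb.1) ⟨ξ, hξ, rfl⟩ hl
    refine ⟨l, ?_, h1⟩
    have h2 := br_spec hM P B'.1
    rw [h1] at h2
    exact Blocks.CentralizerSum.inducedBlock_unique h2 (induced_tl _ l hb)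
  have hc1 : ∀ B' : Tb p M (P : Subgroup G) θ, Nat.card B'.1.1 = Nat.card B := by
    intro B'
    obtain ⟨l, h1, -⟩ := hconj B'
    rw [h1]
    exact Nat.card_image_of_injective (tl_injective l) B
  have hc2 : ∀ B' : Tb p M (P : Subgroup G) θ, Nat.card (br hM P B'.1) = Nat.card b := by
    intro B'
    obtain ⟨l, -, h1⟩ := hconj B'
    rw [h1]
    exact Nat.card_image_of_injective (tl_injective _) b
  letI : Fintype (Tb p M (P : Subgroup G) θ) := Fintype.ofFinite _
  rw [Nat.card_sigma, Nat.card_sigma, Finset.sum_congr rfl fun B' _ => hc1 B',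
    Finset.sum_congr rfl fun B' _ => hc2 B', Finset.sum_const, Finset.sum_const, smul_eq_mul, smul_eq_mul] at e4
  refine Nat.eq_of_mul_eq_mul_left ?_ e4
  rw [Finset.card_univ, Fintype.card_pos_iff]
  exact ⟨⟨⟨B, hb.2.1, hBP⟩, mem_Tb hM P hKC hθ ⟨B, hb.2.1, hBP⟩ (by rw [hBb]; exact hξ) hξθ⟩⟩

end main

end Cfsg.Agent.H608.TI
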