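import Mathlib
import Cfsg.Agent.H608.TI.Count
import Cfsg.Agent.S0914
import Cfsg.Agent.S0956

/-!
# Number of irreducible characters, `P` a TI Sylow subgroup

* `defect_P`: a block of `G` has defect group `P` or is a defect zero character;
* `defect_N`: all blocks of `N_G(P)` have defect group `P`;
* `card_nondz`: the numbers of the irreducible characters of positive defect of `G` and of the irreducible characters of
  `N_G(P)` are the sums over the blocks `B` of `G` with defect group `P`;
* `classes_of`: S4819 implies S4820.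
-/

set_option autoImplicit false

namespace Cfsg.Agent.H608.TI

open Cfsg Cfsg.Agent.H608.BlockRank Cfsg.Agent.Blocks.Basic Cfsg.Agent.Blocks.Local
open scoped Pointwise

universe u

variable {G : Type u} [Group G]

/-- Defect zero. -/
abbrev Dz (p : ℕ) (χ : IrrCharacter G) : Prop :=
  (charDegree (χ : G → ℂ)).factorization p = (Nat.card G).factorization p

/-- The blocks with defect group `P`. -/
abbrev Bl (p : ℕ) (M : Ideal AlgInt) (P : Subgroup G) : Type u :=
  {B : Set (IrrCharacter G) // IsPBlock M B ∧ IsDefectGroup p M B P}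

variable [Finite G] {p : ℕ} [Fact p.Prime] {M : Ideal AlgInt}

omit [Finite G] [Fact p.Prime] in
theorem isPGroup_defect {B : Set (IrrCharacter G)} {D : Subgroup G} (hD : IsDefectGroup p M B D) : IsPGroup p D := by
  obtain ⟨g, -, Q, rfl⟩ := hD
  exact Q.2.map _

omit [Fact p.Prime] in
theorem charDegree_dvd' (χ : IrrCharacter G) : charDegree (χ : G → ℂ) ∣ Nat.card G := by
  obtain ⟨n, ρ, hρ, hχρ⟩ := χ.2
  have hirr : ρ.IsIrreducible := hρ
  have h1 := Cfsg.Agent.S0135.result ρ
  have h2 : charDegree (χ : G → ℂ) = Module.finrank ℂ (Fin n → ℂ) := by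
    apply charDegree_of_eq
    rw [← hχρ, Representation.char_one]
  rwa [h2]

omit [Finite G] [Fact p.Prime] in
theorem charDegree_ne (χ : IrrCharacter G) : charDegree (χ : G → ℂ) ≠ 0 := (charDegree_pos χ.2).ne'

theorem dz_iff (χ : IrrCharacter G) : Dz p χ ↔ ¬ p ∣ Nat.card G / charDegree (χ : G → ℂ) := by
  have hp : p.Prime := Fact.out
  have hdvd : charDegree (χ : G → ℂ) ∣ Nat.card G := charDegree_dvd' χ
  obtain ⟨m, hm⟩ := hdvd
  have hG : Nat.card G ≠ 0 := Nat.card_pos.ne'
  have hd := charDegree_ne χ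
  have hm0 : m ≠ 0 := fun h => hG (by rw [hm, h, mul_zero])
  have h1 : Nat.card G / charDegree (χ : G → ℂ) = m := by
    rw [hm]; exact Nat.mul_div_cancel_left m (Nat.pos_of_ne_zero hd)
  have h2 : (Nat.card G).factorization p = (charDegree (χ : G → ℂ)).factorization p + m.factorization p := by
    rw [hm, Nat.factorization_mul hd hm0]; rfl
  rw [h1]
  unfold Dz
  rw [h2]
  constructor
  · intro h h3
    have := hp.factorization_pos_of_dvd hm0 h3
    omega
  · intro h
    rw [Nat.factorization_eq_zero_of_not_dvd h, add_zero]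

/-- A block has defect group `P` or is a defect zero character. -/
theorem defect_P (hM : IsPModular p M) (P : Sylow p G) (hTI : IsTI (P : Subgroup G)) {B : Set (IrrCharacter G)}
    (hB : IsPBlock M B) : IsDefectGroup p M B P ∨ ∃ χ : IrrCharacter G, B = {χ} ∧ Dz p χ := by
  have hMp := isPrime_of_isPModular hM
  obtain ⟨D, hD⟩ := H609.TwoDefect.exists_defectGroup hM hB
  obtain ⟨Q, hQ⟩ := (isPGroup_defect hD).exists_le_sylow
  obtain ⟨c, hc⟩ := MulAction.exists_smul_eq G Q P
  have hD' := isDefectGroup_conj hD c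
  have hle : D.map (MulAut.conj c).toMonoidHom ≤ P := by
    rw [← hc, Sylow.coe_subgroup_smul]
    exact Subgroup.map_mono hQ
  obtain ⟨x, -, -, hx⟩ := Cfsg.Agent.S0956.result p M hM B hB _ hD' P hle
  by_cases hn : x ∈ Subgroup.normalizer ((P : Subgroup G) : Set G)
  · left
    have h1 : (P : Subgroup G).map (MulAut.conj x).toMonoidHom = P := by
      have h2 := (Sylow.smul_eq_iff_mem_normalizer (P := P)).2 hn
      have h3 := congrArg Sylow.toSubgroup h2
      exact h3
    rw [h1, inf_idem] at hx
    rw [hx]; exact hD'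
  · right
    have h1 : D.map (MulAut.conj c).toMonoidHom = ⊥ := by
      rw [← hx]; exact hTI x hn
    have h2 := Cfsg.Agent.S0908.result p M hM B hB _ hD'
    rw [h1, Subgroup.card_bot] at h2
    have hp : p.Prime := Fact.out
    have h3 : blockDefect p B = 0 := by
      by_contra h0
      exact absurd h2.symm (Nat.one_lt_pow h0 hp.one_lt).ne'
    obtain ⟨χ, hχ⟩ := isPBlock_nonempty hB
    unfold blockDefect at h3
    have h4 : sInf ((fun χ : IrrCharacter G => (charDegree (χ : G → ℂ)).factorization p) '' B) ≤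
        (charDegree (χ : G → ℂ)).factorization p := Nat.sInf_le ⟨χ, hχ, rfl⟩
    have h5 : (charDegree (χ : G → ℂ)).factorization p ≤ (Nat.card G).factorization p :=
      (Nat.factorization_le_iff_dvd (charDegree_ne χ) Nat.card_pos.ne').2 (charDegree_dvd' χ) p
    have h6 : Dz p χ := by unfold Dz; omega
    refine ⟨χ, ?_, h6⟩
    rw [← (Cfsg.Agent.S0914.result p M hM χ).1 ((dz_iff χ).1 h6)]
    exact isPBlock_eq_of_mem hB (isPBlock_blockOf χ) hχ (mem_blockOf_self χ)

/-- Members of blocks with defect group `P` have positive defect. -/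
theorem not_dz (hM : IsPModular p M) (P : Sylow p G) (hP : (P : Subgroup G) ≠ ⊥) {B : Set (IrrCharacter G)}
    (hB : IsPBlock M B) (hBP : IsDefectGroup p M B P) {χ : IrrCharacter G} (hχ : χ ∈ B) : ¬ Dz p χ := by
  have hMp := isPrime_of_isPModular hM
  intro h
  have h1 : B = {χ} := by
    rw [← (Cfsg.Agent.S0914.result p M hM χ).1 ((dz_iff χ).1 h)]
    exact isPBlock_eq_of_mem hB (isPBlock_blockOf χ) hχ (mem_blockOf_self χ)
  have h2 := Cfsg.Agent.S0908.result p M hM B hB _ hBP
  have h3 : blockDefect p B = 0 := by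
    unfold blockDefect
    rw [h1, Set.image_singleton, csInf_singleton]
    unfold Dz at h
    omega
  rw [h3, pow_zero] at h2
  exact hP (Subgroup.eq_bot_of_card_eq _ h2)

/-- All blocks of `N_G(P)` have defect group `P`. -/
theorem defect_N (hM : IsPModular p M) (P : Sylow p G)
    {b : Set (IrrCharacter (Subgroup.normalizer ((P : Subgroup G) : Set G)))} (hb : IsPBlock M b) :
    IsDefectGroup p M b ((P : Subgroup G).subgroupOf (Subgroup.normalizer ((P : Subgroup G) : Set G))) := by
  obtain ⟨D, hD⟩ := H609.TwoDefect.exists_defectGroup hM hb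
  have hN : ((P : Subgroup G).subgroupOf (Subgroup.normalizer ((P : Subgroup G) : Set G))).Normal := ⟨fun a ha g => by
    rw [Subgroup.mem_subgroupOf] at ha ⊢
    exact (Subgroup.mem_normalizer_iff.1 g.2 a).1 ha⟩
  have h4 : (P : Subgroup G).subgroupOf (Subgroup.normalizer ((P : Subgroup G) : Set G)) ≤ D := by
    refine le_trans ?_ (Cfsg.Agent.S0912.result p M hM _ hb D hD)
    exact le_sSup ⟨hN, P.2.comap_subtype⟩
  have h5 : (P : Subgroup G) ≤ D.map (Subgroup.normalizer ((P : Subgroup G) : Set G)).subtype := by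
    intro x hx
    exact ⟨⟨x, Subgroup.le_normalizer hx⟩, h4 hx, rfl⟩
  have h6 := P.3 ((isPGroup_defect hD).map (Subgroup.normalizer ((P : Subgroup G) : Set G)).subtype) h5
  have h7 : (P : Subgroup G).subgroupOf (Subgroup.normalizer ((P : Subgroup G) : Set G)) = D := by
    refine le_antisymm h4 fun x hx => ?_
    rw [Subgroup.mem_subgroupOf]
    exact h6.le ⟨x, hx, rfl⟩
  rw [h7]; exact hD

/-- The block of `N_G(P)` inducing `B`. -/
theorem exists_br (hM : IsPModular p M) (P : Sylow p G) (B : Bl p M (P : Subgroup G)) :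
    ∃ b : Set (IrrCharacter (Subgroup.normalizer ((P : Subgroup G) : Set G))),
      IsInducedBlock M (Subgroup.normalizer ((P : Subgroup G) : Set G)) b B.1 := by
  obtain ⟨b, hb, -⟩ := (Cfsg.Agent.S0920.result p M hM P P.2).2 B.1 B.2.1 B.2.2
  exact ⟨b, hb.2.2⟩

/-- The Brauer correspondent. -/
noncomputable def br (hM : IsPModular p M) (P : Sylow p G) (B : Bl p M (P : Subgroup G)) :
    Set (IrrCharacter (Subgroup.normalizer ((P : Subgroup G) : Set G))) := (exists_br hM P B).choose

theorem br_spec (hM : IsPModular p M) (P : Sylow p G) (B : Bl p M (P : Subgroup G)) :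
    IsInducedBlock M (Subgroup.normalizer ((P : Subgroup G) : Set G)) (br hM P B) B.1 := (exists_br hM P B).choose_spec

theorem br_eq (hM : IsPModular p M) (P : Sylow p G) (B : Bl p M (P : Subgroup G))
    {b : Set (IrrCharacter (Subgroup.normalizer ((P : Subgroup G) : Set G)))}
    (hb : IsInducedBlock M (Subgroup.normalizer ((P : Subgroup G) : Set G)) b B.1) : br hM P B = b :=
  uniq_induced hM P.2 B.2.1 B.2.2 (br_spec hM P B) hb

/-- The characters of positive defect. -/
noncomputable def equivG (hM : IsPModular p M) (P : Sylow p G) (hTI : IsTI (P : Subgroup G)) (hP : (P : Subgroup G) ≠ ⊥) :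
    (Σ B : Bl p M (P : Subgroup G), B.1) ≃ {χ : IrrCharacter G // ¬ Dz p χ} :=
  Equiv.ofBijective (fun s => ⟨s.2, not_dz hM P hP s.1.2.1 s.1.2.2 s.2.2⟩) (by
    have hMp := isPrime_of_isPModular hM
    constructor
    · rintro ⟨B, χ⟩ ⟨B', χ'⟩ h
      have h1 : (χ : IrrCharacter G) = χ' := congrArg Subtype.val h
      have h2 : B = B' := Subtype.ext (isPBlock_eq_of_mem B.2.1 B'.2.1 χ.2 (h1 ▸ χ'.2))
      subst h2
      congr 1
      exact Subtype.ext h1
    · rintro ⟨χ, hχ⟩
      refine ⟨⟨⟨blockOf M (χ : G → ℂ), isPBlock_blockOf χ, ?_⟩, ⟨χ, mem_blockOf_self χ⟩⟩, rfl⟩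
      rcases defect_P hM P hTI (isPBlock_blockOf (M := M) χ) with h | ⟨χ', h1, h2⟩
      · exact h
      · exfalso
        have h3 : χ ∈ blockOf M (χ : G → ℂ) := mem_blockOf_self χ
        rw [h1, Set.mem_singleton_iff] at h3
        rw [h3] at hχ
        exact hχ h2)

/-- The characters of `N_G(P)`. -/
noncomputable def equivN (hM : IsPModular p M) (P : Sylow p G) :
    (Σ B : Bl p M (P : Subgroup G), br hM P B) ≃ IrrCharacter (Subgroup.normalizer ((P : Subgroup G) : Set G)) :=
  Equiv.ofBijective (fun s => (s.2 : IrrCharacter (Subgroup.normalizer ((P : Subgroup G) : Set G)))) (by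
    have hMp := isPrime_of_isPModular hM
    constructor
    · rintro ⟨B, ξ⟩ ⟨B', ξ'⟩ h
      have h1 : (ξ : IrrCharacter (Subgroup.normalizer ((P : Subgroup G) : Set G))) = ξ' := h
      have h2 : br hM P B = br hM P B' := isPBlock_eq_of_mem (br_spec hM P B).1 (br_spec hM P B').1 ξ.2 (h1 ▸ ξ'.2)
      have h3 : B = B' := by
        refine Subtype.ext (Blocks.CentralizerSum.inducedBlock_unique (br_spec hM P B) ?_)
        rw [h2]; exact br_spec hM P B'
      subst h3
      congr 1
      exact Subtype.ext h1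
    · intro ξ
      have hb : IsPBlock M (blockOf M (ξ : (Subgroup.normalizer ((P : Subgroup G) : Set G)) → ℂ)) := isPBlock_blockOf ξ
      obtain ⟨B, hB, hBP, hind⟩ := (Cfsg.Agent.S0920.result p M hM (P : Subgroup G) P.2).1 _ hb (defect_N hM P hb)
      refine ⟨⟨⟨B, hB, hBP⟩, ⟨ξ, ?_⟩⟩, rfl⟩
      rw [br_eq hM P ⟨B, hB, hBP⟩ hind]
      exact mem_blockOf_self ξ)

omit [Fact p.Prime] in
/-- `k(G)` is the sum of the number of the defect zero characters and of the others. -/
theorem classes_eq : Nat.card (ConjClasses G) = Nat.card {χ : IrrCharacter G // ¬ Dz p χ} +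
    Nat.card {χ : IrrCharacter G // Dz p χ} := by
  classical
  have := Cfsg.Agent.Characters.Core.finite_irr (G := G)
  rw [← Cfsg.Agent.Characters.Core.card_irr, ← Nat.card_congr (Equiv.sumCompl (fun χ : IrrCharacter G => Dz p χ)),
    Nat.card_sum, add_comm]

/-- **S4819 implies S4820.** -/
theorem classes_of_card (hpG : p ∣ Nat.card G) (P : Sylow p G) (hTI : IsTI (P : Subgroup G)) (hM : IsPModular p M)
    (h : ∀ B : Set (IrrCharacter G), IsPBlock M B → IsDefectGroup p M B (P : Subgroup G) →
      ∀ b : Set (IrrCharacter (Subgroup.normalizer ((P : Subgroup G) : Set G))),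
        IsInducedBlock M (Subgroup.normalizer ((P : Subgroup G) : Set G)) b B → Nat.card B = Nat.card b) :
    Nat.card (ConjClasses G) = Nat.card (ConjClasses (Subgroup.normalizer ((P : Subgroup G) : Set G))) +
      Nat.card {χ : IrrCharacter G // Dz p χ} := by
  classical
  have hP : (P : Subgroup G) ≠ ⊥ := P.ne_bot_of_dvd_card hpG
  have := Cfsg.Agent.Characters.Core.finite_irr (G := G)
  have := Cfsg.Agent.Characters.Core.finite_irr (G := Subgroup.normalizer ((P : Subgroup G) : Set G))
  rw [classes_eq (p := p), ← Cfsg.Agent.Characters.Core.card_irr (G := Subgroup.normalizer ((P : Subgroup G) : Set G))]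
  congr 1
  rw [← Nat.card_congr (equivG hM P hTI hP), ← Nat.card_congr (equivN hM P)]
  have he : ∀ B : Bl p M (P : Subgroup G), Nonempty (B.1 ≃ br hM P B) := fun B =>
    Finite.card_eq.1 (h B.1 B.2.1 B.2.2 _ (br_spec hM P B))
  exact Nat.card_congr (Equiv.sigmaCongrRight fun B => (he B).some)

theorem classes_of (hpG : p ∣ Nat.card G) (P : Sylow p G) (hTI : IsTI (P : Subgroup G)) (hM : IsPModular p M)
    (h : ∀ B : Set (IrrCharacter G), IsPBlock M B → IsDefectGroup p M B (P : Subgroup G) →
      ∀ b : Set (IrrCharacter (Subgroup.normalizer ((P : Subgroup G) : Set G))),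
        IsInducedBlock M (Subgroup.normalizer ((P : Subgroup G) : Set G)) b B → blockRank p B = blockRank p b) :
    Nat.card (ConjClasses G) = Nat.card (ConjClasses (Subgroup.normalizer ((P : Subgroup G) : Set G))) +
      Nat.card {χ : IrrCharacter G // Dz p χ} := by
  refine classes_of_card hpG P hTI hM fun B hB hBP b hb => ?_
  have h1 := count hM P hTI hB hBP hb
  rw [h B hB hBP b hb] at h1
  omega

/-- Conversely: if `B` is the only block with defect group `P`, the count of characters gives the rank. -/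
theorem rank_of_classes (P : Sylow p G) (hTI : IsTI (P : Subgroup G)) (hP : (P : Subgroup G) ≠ ⊥) (hM : IsPModular p M)
    (huniq : ∀ b b' : Set (IrrCharacter (Subgroup.normalizer ((P : Subgroup G) : Set G))), IsPBlock M b → IsPBlock M b' →
      b = b')
    (hk : Nat.card (ConjClasses G) = Nat.card (ConjClasses (Subgroup.normalizer ((P : Subgroup G) : Set G))) +
      Nat.card {χ : IrrCharacter G // Dz p χ})
    {B : Set (IrrCharacter G)} (hB : IsPBlock M B) (hBP : IsDefectGroup p M B P)
    {b : Set (IrrCharacter (Subgroup.normalizer ((P : Subgroup G) : Set G)))}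
    (hb : IsInducedBlock M (Subgroup.normalizer ((P : Subgroup G) : Set G)) b B) : blockRank p B = blockRank p b := by
  classical
  have hMp := isPrime_of_isPModular hM
  have := Cfsg.Agent.Characters.Core.finite_irr (G := G)
  have := Cfsg.Agent.Characters.Core.finite_irr (G := Subgroup.normalizer ((P : Subgroup G) : Set G))
  rw [classes_eq (p := p), ← Cfsg.Agent.Characters.Core.card_irr (G := Subgroup.normalizer ((P : Subgroup G) : Set G))] at hk
  have h1 := Nat.add_right_cancel hk
  rw [← Nat.card_congr (equivG hM P hTI hP)] at h1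
  have hu : ∀ B' : Bl p M (P : Subgroup G), B' = ⟨B, hB, hBP⟩ := by
    intro B'
    refine Subtype.ext (Blocks.CentralizerSum.inducedBlock_unique (br_spec hM P B') ?_)
    rw [huniq _ b (br_spec hM P B').1 hb.1]
    exact hb
  letI hU : Unique (Bl p M (P : Subgroup G)) := ⟨⟨⟨B, hB, hBP⟩⟩, hu⟩
  have h2 : Nat.card (Σ B : Bl p M (P : Subgroup G), B.1) = Nat.card B :=
    Nat.card_congr (Equiv.uniqueSigma (fun B : Bl p M (P : Subgroup G) => (B.1 : Type _)))
  have h3 : Nat.card (IrrCharacter (Subgroup.normalizer ((P : Subgroup G) : Set G))) = Nat.card b := by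
    refine Nat.card_congr (Equiv.subtypeUnivEquiv (p := fun ξ => ξ ∈ b) fun ξ => ?_).symm
    rw [huniq b _ hb.1 (isPBlock_blockOf ξ)]
    exact mem_blockOf_self ξ
  have h4 := count hM P hTI hB hBP hb
  omega

end Cfsg.Agent.H608.TI
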