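import Cfsg.Agent.H681.TI.Cliff
import Cfsg.Agent.H666.Clif.Gall
import Cfsg.Agent.H608.TI.Final

/-!
# Tools for the block part of the rows with `G / K E` abelian

* `exists_cprime`: the `p'`-elements of `C(P)`, `P` a Sylow subgroup, form a subgroup;
* `exists_lin`: two characters of `C ≤ G` over the same `θ ∈ Irr K` differ by a linear character of `G / L` if `G / L` is
  abelian and `C ∩ L ≤ K`;
* `induced_tl`: block induction commutes with the multiplication by linear characters.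
-/

set_option autoImplicit false
set_option linter.style.haveILetI false
set_option linter.unusedSectionVars false

open Cfsg
open scoped Pointwise ComplexConjugate commutatorElement

namespace Cfsg.Agent.H608.TI

open Cfsg.Agent.H681.TI Cfsg.Agent.H672 Cfsg.Agent.H672.RM Cfsg.Agent.H675.Nd Cfsg.Agent.Characters.Core
open Cfsg.Agent.H666.Clif (tl tl_apply tl_inv_tl tl_tl_inv tl_injective image_tl_blockOf isPBlock_tl sameBlock_tl
  isIntegral_lin centralChar_tl)

universe u v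

section cprime
variable {G : Type u} [Group G] [Finite G] {p : ℕ} [hp : Fact p.Prime]

/-- The `p'`-elements of `C(P)`. -/
theorem exists_cprime (P : Sylow p G) :
    ∃ C : Subgroup G, C ≤ Subgroup.centralizer ((P : Subgroup G) : Set G) ∧ ¬ p ∣ Nat.card C ∧
      ∀ x ∈ Subgroup.centralizer ((P : Subgroup G) : Set G), ¬ p ∣ orderOf x → x ∈ C := by
  set Z := Subgroup.centralizer ((P : Subgroup G) : Set G) with hZ
  let Q : Subgroup Z := (P : Subgroup G).subgroupOf Z
  have hQc : ∀ q ∈ Q, ∀ z : Z, q * z = z * q := fun q hq z =>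
    Subtype.ext (Subgroup.mem_centralizer_iff.1 z.2 q (Subgroup.mem_subgroupOf.1 hq))
  haveI hQn : Q.Normal := ⟨fun q hq z => by
    rw [← hQc q hq z, mul_inv_cancel_right]; exact hq⟩
  obtain ⟨R, hR⟩ := (P.2.comap_subtype (K := Z)).exists_le_sylow
  have hRQ : (R : Subgroup Z) ≤ Q := by
    intro r hr
    rw [Subgroup.mem_subgroupOf]
    obtain ⟨k, hk⟩ := (IsPGroup.iff_orderOf.1 R.2) ⟨r, hr⟩
    have hk' : orderOf (r : G) = p ^ k := by rw [← hk, Subgroup.orderOf_mk, Subgroup.orderOf_coe]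
    exact mem_of_normalizer P ⟨k, hk'⟩ (Subgroup.centralizer_le_normalizer _ r.2)
  have hQR : Q = R := le_antisymm hR hRQ
  have hidx : ¬ p ∣ Q.index := by rw [hQR]; exact R.not_dvd_index
  have hcop : Nat.Coprime (Nat.card Q) Q.index := by
    rw [hQR]; exact R.card_coprime_index
  obtain ⟨H, hH⟩ := Subgroup.exists_right_complement'_of_coprime hcop
  have hHc : Nat.card H = Q.index := hH.symm.index_eq_card.symm
  refine ⟨H.map Z.subtype, ?_, ?_, ?_⟩
  · rintro _ ⟨z, -, rfl⟩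
    exact z.2
  · rw [Subgroup.card_map_of_injective (Subgroup.subtype_injective _), hHc]
    exact hidx
  · intro x hx hxo
    obtain ⟨⟨q, h⟩, he⟩ := hH.2 ⟨x, hx⟩
    have he' : (q : Z) * h = ⟨x, hx⟩ := he
    have hcq : Commute (q : Z) (h : Z) := hQc q q.2 h
    set m := orderOf x * Nat.card H with hm
    have hpm : ¬ p ∣ m := by
      intro hd
      rcases hp.out.dvd_mul.1 hd with h1 | h1
      · exact hxo h1
      · rw [hHc] at h1; exact hidx h1
    have h1 : (⟨x, hx⟩ : Z) ^ m = 1 := by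
      apply Subtype.ext
      change x ^ m = 1
      rw [hm, pow_mul, pow_orderOf_eq_one, one_pow]
    have h2 : (h : Z) ^ m = 1 := by
      rw [hm, mul_comm, pow_mul]
      have : (h : Z) ^ Nat.card H = 1 := congrArg Subtype.val (pow_card_eq_one' (x := h))
      rw [this, one_pow]
    have h3 : (q : Z) ^ m = 1 := by
      rw [← he', hcq.mul_pow, h2, mul_one] at h1
      exact h1
    have hqP : ((q : Z) : G) ∈ (P : Subgroup G) := Subgroup.mem_subgroupOf.1 q.2
    obtain ⟨k, hk⟩ := P.2 ⟨_, hqP⟩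
    have hk' : (q : Z) ^ p ^ k = 1 := by
      have h8 : ((q : Z) : G) ^ p ^ k = 1 := congrArg Subtype.val hk
      apply Subtype.ext
      rw [SubmonoidClass.coe_pow]
      exact h8
    have h4 : orderOf (q : Z) ∣ m := orderOf_dvd_of_pow_eq_one h3
    have h5 : orderOf (q : Z) ∣ p ^ k := orderOf_dvd_of_pow_eq_one hk'
    have h6 : Nat.Coprime (p ^ k) m := Nat.Coprime.pow_left _ ((Nat.Prime.coprime_iff_not_dvd hp.out).2 hpm)
    have h7 : (q : Z) = 1 := orderOf_eq_one_iff.1 (Nat.eq_one_of_dvd_coprimes h6 h5 h4)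
    rw [h7, one_mul] at he'
    exact ⟨h, h.2, congrArg Subtype.val he'⟩

end cprime

section dual
variable {G : Type u} [Group G] [Finite G]

theorem finite_lin (X : Type v) [Group X] [Finite X] : Finite (X →* ℂˣ) := by
  haveI : NeZero (Nat.card X) := ⟨Nat.card_pos.ne'⟩
  let f : (X →* ℂˣ) → (X → rootsOfUnity (Nat.card X) ℂ) := fun d x =>
    ⟨d x, by rw [mem_rootsOfUnity, ← map_pow, pow_card_eq_one', map_one]⟩
  have hf : Function.Injective f := by
    intro d d' h
    ext x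
    have h1 := congrArg Subtype.val (congrFun h x)
    exact congrArg Units.val h1
  exact Finite.of_injective f hf

/-- linear characters of `G / L` separate -/
theorem exists_lin_sep (L : Subgroup G) [L.Normal] (hab : ∀ x y : G, ⁅x, y⁆ ∈ L) {x : G} (hx : x ∉ L) :
    ∃ l : G →* ℂˣ, (∀ y ∈ L, l y = 1) ∧ l x ≠ 1 := by
  have h1 : (x : G ⧸ L) ∉ commutator (G ⧸ L) := by
    intro h
    have h2 : commutator (G ⧸ L) = ⊥ := by
      rw [eq_bot_iff, _root_.commutator_def, Subgroup.commutator_le]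
      intro a _ b _
      obtain ⟨a, rfl⟩ := QuotientGroup.mk_surjective a
      obtain ⟨b, rfl⟩ := QuotientGroup.mk_surjective b
      rw [Subgroup.mem_bot]
      have h3 : ⁅(a : G ⧸ L), (b : G ⧸ L)⁆ = ((⁅a, b⁆ : G) : G ⧸ L) := rfl
      rw [h3, QuotientGroup.eq_one_iff]
      exact hab a b
    rw [h2, Subgroup.mem_bot, QuotientGroup.eq_one_iff] at h
    exact hx h
  obtain ⟨f, hf⟩ := Cfsg.Agent.H597.Norm.exists_hom_ne_one h1
  refine ⟨f.comp (QuotientGroup.mk' L), fun y hy => ?_, hf⟩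
  rw [MonoidHom.comp_apply]
  have : QuotientGroup.mk' L y = 1 := (QuotientGroup.eq_one_iff y).2 hy
  rw [this, map_one]

/-- the linear characters of `G / L` -/
def Lin (L : Subgroup G) : Subgroup (G →* ℂˣ) where
  carrier := {l | ∀ y ∈ L, l y = 1}
  one_mem' := fun _ _ => rfl
  mul_mem' := by
    intro a b ha hb y hy
    rw [MonoidHom.mul_apply, ha y hy, hb y hy, one_mul]
  inv_mem' := by
    intro a ha y hy
    rw [MonoidHom.inv_apply, ha y hy, inv_one]

/-- orthogonality -/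
theorem sum_lin (L : Subgroup G) [L.Normal] (hab : ∀ x y : G, ⁅x, y⁆ ∈ L) [Fintype (Lin L)] {x : G} (hx : x ∉ L) :
    ∑ l : Lin L, ((l : G →* ℂˣ) x : ℂ) = 0 := by
  obtain ⟨l₀, h1, h2⟩ := exists_lin_sep L hab hx
  let d : Lin L := ⟨l₀, h1⟩
  have h3 : ∑ l : Lin L, ((l : G →* ℂˣ) x : ℂ) = (l₀ x : ℂ) * ∑ l : Lin L, ((l : G →* ℂˣ) x : ℂ) := by
    rw [Finset.mul_sum]
    symm
    refine Fintype.sum_equiv (Equiv.mulLeft d) _ _ fun l => ?_
    change (l₀ x : ℂ) * ((l : G →* ℂˣ) x : ℂ) = (((d * l : Lin L) : G →* ℂˣ) x : ℂ)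
    rw [Subgroup.coe_mul, MonoidHom.mul_apply, Units.val_mul]
  have h4 : (1 - (l₀ x : ℂ)) * ∑ l : Lin L, ((l : G →* ℂˣ) x : ℂ) = 0 := by
    rw [sub_mul, one_mul, ← h3, sub_self]
  refine (mul_eq_zero.1 h4).resolve_left fun h5 => h2 ?_
  apply Units.ext
  rw [Units.val_one]
  exact (sub_eq_zero.1 h5).symm

theorem norm_lin {X : Type v} [Group X] [Finite X] (l : X →* ℂˣ) (x : X) : (l x : ℂ) * conj (l x : ℂ) = 1 := by
  have h1 : (l x : ℂ) ^ Nat.card X = 1 := by
    rw [← Units.val_pow_eq_pow_val, ← map_pow, pow_card_eq_one', map_one, Units.val_one]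
  rw [Complex.mul_conj, Complex.normSq_eq_norm_sq, Complex.norm_eq_one_of_pow_eq_one h1 Nat.card_pos.ne']
  simp

/-- Restrictions with a common constituent are not orthogonal. -/
theorem inner_ne_zero' {X : Type v} [Group X] {H : Type u} [Group H] [Fintype H] (f : H →* X) {φ φ' : X → ℂ}
    (hφ : IsCharacter X φ) (hφ' : IsCharacter X φ') {θ : H → ℂ} (hθ : IsIrrCharacter H θ) (h : Over f φ θ)
    (h' : Over f φ' θ) : classInner (φ' ∘ f) (φ ∘ f) ≠ 0 := by
  classical
  have := finite_irr (G := H)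
  have := Fintype.ofFinite (IrrCharacter H)
  obtain ⟨a, ha, ha'⟩ := CharDeep.CliffordCorr.exists_nat_coeffs (isCharacter_comp f hφ' : IsCharacter H (φ' ∘ f))
  obtain ⟨b, hb, hb'⟩ := CharDeep.CliffordCorr.exists_nat_coeffs (isCharacter_comp f hφ : IsCharacter H (φ ∘ f))
  rw [over_iff] at h h'
  rw [ha' ⟨θ, hθ⟩] at h'
  rw [hb' ⟨θ, hθ⟩] at h
  rw [ha, hb, Characters.Core.classInner_sum_smul_sum_smul]
  have h3 : ∑ η : IrrCharacter H, ((a η : ℂ) * conj (b η : ℂ)) = ((∑ η : IrrCharacter H, a η * b η : ℕ) : ℂ) := by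
    push_cast
    refine Finset.sum_congr rfl fun η _ => ?_
    rw [Complex.conj_natCast]
  rw [h3]
  norm_cast at h h' ⊢
  intro h0
  have h4 := Finset.sum_eq_zero_iff.1 h0 ⟨θ, hθ⟩ (Finset.mem_univ _)
  exact (mul_ne_zero h' h) h4

/-- **Characters of `C` over the same character of `K` differ by a linear character of `G / L`.** -/
theorem exists_lin (L : Subgroup G) [L.Normal] (hab : ∀ x y : G, ⁅x, y⁆ ∈ L) {K C : Subgroup G} (hKC : K ≤ C)
    (hKL : K ≤ L) (hCL : ∀ x ∈ C, x ∈ L → x ∈ K) {θ : K → ℂ} (hθ : IsIrrCharacter K θ) {φ φ' : C → ℂ}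
    (hφ : IsIrrCharacter C φ) (hφ' : IsIrrCharacter C φ') (h : Over (Subgroup.inclusion hKC) φ θ)
    (h' : Over (Subgroup.inclusion hKC) φ' θ) :
    ∃ l : G →* ℂˣ, (∀ y ∈ L, l y = 1) ∧ ∀ c : C, φ' c = (l c : ℂ) * φ c := by
  classical
  letI := Fintype.ofFinite G
  letI := Fintype.ofFinite C
  letI := Fintype.ofFinite K
  haveI := finite_lin G
  letI := Fintype.ofFinite (Lin L)
  by_contra hcon
  push Not at hcon
  have hirr : ∀ l : Lin L, IsIrrCharacter C (fun c => (((l : G →* ℂˣ).comp C.subtype) c : ℂ) * φ c) := fun l =>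
    OddOrderCharacters.AbelianTwist.isIrr_hom_mul ((l : G →* ℂˣ).comp C.subtype) hφ
  have h1 : ∀ l : Lin L, classInner φ' (fun c => (((l : G →* ℂˣ).comp C.subtype) c : ℂ) * φ c) = 0 := by
    intro l
    refine classInner_irr_ne hφ' (hirr l) fun he => ?_
    obtain ⟨c, hc⟩ := hcon l l.2
    exact hc (congrFun he c)
  have h2 : ∑ l : Lin L, classInner φ' (fun c => (((l : G →* ℂˣ).comp C.subtype) c : ℂ) * φ c) = 0 :=
    Finset.sum_eq_zero fun l _ => h1 l
  have h3 : ∀ c : C, ∑ l : Lin L, φ' c * conj ((((l : G →* ℂˣ).comp C.subtype) c : ℂ) * φ c) =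
      if (c : G) ∈ K then (Fintype.card (Lin L) : ℂ) * (φ' c * conj (φ c)) else 0 := by
    intro c
    have h4 : ∀ l : Lin L, φ' c * conj ((((l : G →* ℂˣ).comp C.subtype) c : ℂ) * φ c) =
        conj ((l : G →* ℂˣ) (c : G) : ℂ) * (φ' c * conj (φ c)) := by
      intro l
      rw [map_mul]
      change φ' c * (conj ((l : G →* ℂˣ) (c : G) : ℂ) * conj (φ c)) = _
      ring
    simp only [h4]
    rw [← Finset.sum_mul]
    split_ifs with hc
    · have h5 : ∀ l : Lin L, conj ((l : G →* ℂˣ) (c : G) : ℂ) = 1 := by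
        intro l
        rw [l.2 c (hKL hc), Units.val_one, map_one]
      simp only [h5]
      rw [Finset.sum_const, Finset.card_univ, nsmul_eq_mul, mul_one]
    · have h5 : (c : G) ∉ L := fun hL => hc (hCL c c.2 hL)
      rw [← map_sum, sum_lin L hab h5, map_zero, zero_mul]
  have h4 : ∑ l : Lin L, classInner φ' (fun c => (((l : G →* ℂˣ).comp C.subtype) c : ℂ) * φ c) =
      (Nat.card C : ℂ)⁻¹ * ((Fintype.card (Lin L) : ℂ) * ∑ k : K, φ' (Subgroup.inclusion hKC k) *
        conj (φ (Subgroup.inclusion hKC k))) := by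
    unfold classInner
    rw [← Finset.mul_sum, Finset.sum_comm, Finset.sum_congr rfl fun g _ => h3 g, ← Finset.sum_filter,
      ← Finset.mul_sum]
    congr 2
    symm
    refine Finset.sum_bij (fun k _ => Subgroup.inclusion hKC k) (fun k _ => ?_) (fun k _ k' _ he => ?_)
      (fun c hc => ?_) (fun k _ => rfl)
    · exact Finset.mem_filter.2 ⟨Finset.mem_univ _, k.2⟩
    · exact Subgroup.inclusion_injective hKC he
    · exact ⟨⟨c, (Finset.mem_filter.1 hc).2⟩, Finset.mem_univ _, rfl⟩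
  rw [h4] at h2
  have h5 : (Nat.card C : ℂ)⁻¹ ≠ 0 := inv_ne_zero (by exact_mod_cast Nat.card_pos.ne')
  have h6 : (Fintype.card (Lin L) : ℂ) ≠ 0 := by exact_mod_cast Fintype.card_ne_zero
  have h7 := (mul_eq_zero.1 ((mul_eq_zero.1 h2).resolve_left h5)).resolve_left h6
  have h8 := inner_ne_zero' (Subgroup.inclusion hKC) (isIrr_isCharacter hφ) (isIrr_isCharacter hφ') hθ h h'
  apply h8
  unfold classInner
  have h9 : ∑ k : K, (φ' ∘ Subgroup.inclusion hKC) k * conj ((φ ∘ Subgroup.inclusion hKC) k) = 0 := h7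
  rw [h9, mul_zero]

end dual

section induced
variable {G : Type u} [Group G] [Finite G] {M : Ideal AlgInt}

/-- **Block induction commutes with linear characters.** -/
theorem induced_tl [hMp : M.IsPrime] (H : Subgroup G) (l : G →* ℂˣ) {b : Set (IrrCharacter H)}
    {B : Set (IrrCharacter G)} (h : IsInducedBlock M H b B) :
    IsInducedBlock M H (tl (l.comp H.subtype) '' b) (tl l '' B) := by
  refine ⟨isPBlock_tl hMp _ h.1, isPBlock_tl hMp _ h.2.1, ?_⟩
  rintro _ ⟨ξ, hξ, rfl⟩ _ ⟨χ, hχ, rfl⟩ g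
  have h1 : inducedCentralChar H (tl (l.comp H.subtype) ξ : H → ℂ) g =
      (l g : ℂ) * inducedCentralChar H (ξ : H → ℂ) g := by
    unfold inducedCentralChar
    rw [mul_finsum_mem]
    refine finsum_mem_congr rfl fun x hx => ?_
    rw [tl_apply, tl_apply, map_one, Units.val_one, one_mul]
    have h2 : l g = l (x : G) := by
      obtain ⟨c, hc⟩ := isConj_iff.1 hx
      rw [← hc, map_mul, map_mul, map_inv, mul_comm (l c), mul_assoc, mul_inv_cancel, mul_one]
    rw [h2]
    change ((l (x : G) : ℂˣ) : ℂ) * (ξ : H → ℂ) x / (ξ : H → ℂ) 1 = _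
    rw [mul_div_assoc]
  rw [h1, centralChar_tl, ← mul_sub]
  exact Blocks.Covering.memLocalIdeal_mul_left hMp (Blocks.Local.memLocalRing_of_isIntegral (isIntegral_lin l g))
    (h.2.2 ξ hξ χ hχ g)

end induced

end Cfsg.Agent.H608.TI
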